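import Mathlib
import Cfsg.Prelude.Def_LinearParabolics

/-!
The block labels of a composition.
-/

set_option autoImplicit false

namespace Cfsg.Agent.Lib.Flag

variable {n : ℕ}

/-- the sum of the first `m` parts -/
def psum (α : Fin n → ℕ) (m : ℕ) : ℕ := ∑ k ∈ Finset.univ.filter (fun k : Fin n => k.val < m), α k

theorem psum_mono (α : Fin n → ℕ) : Monotone (psum α) := fun a b h =>
  Finset.sum_le_sum_of_subset fun k hk => by
    simp only [Finset.mem_filter, Finset.mem_univ, true_and] at hk ⊢
    omega

theorem psum_zero (α : Fin n → ℕ) : psum α 0 = 0 := by simp [psum]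

theorem psum_top (α : Fin n → ℕ) : psum α n = ∑ i, α i := by simp [psum]

theorem psum_succ (α : Fin n → ℕ) (j : Fin n) : psum α (j.val + 1) = psum α j.val + α j := by
  classical
  rw [psum, psum]
  have h : Finset.univ.filter (fun k : Fin n => k.val < j.val + 1) =
      insert j (Finset.univ.filter (fun k : Fin n => k.val < j.val)) := by
    ext k
    simp only [Finset.mem_filter, Finset.mem_univ, true_and, Finset.mem_insert, Fin.ext_iff]
    omega
  rw [h, Finset.sum_insert (by simp), add_comm]

theorem compLabel_lt_iff (α : Fin n → ℕ) (i : Fin n) {m : ℕ} (hm : m ≤ n) :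
    Cfsg.compLabel α i < m ↔ i.val < psum α m := by
  classical
  have hP : ∀ j : Fin n, (∑ k ∈ Finset.univ.filter (fun k : Fin n => k ≤ j), α k) = psum α (j.val + 1) := by
    intro j
    refine Finset.sum_congr (Finset.filter_congr fun k _ => ?_) fun _ _ => rfl
    simp only [Fin.le_def]
    omega
  simp only [Cfsg.compLabel, hP]
  constructor
  · intro h
    by_contra hge
    rw [not_lt] at hge
    have hsub : Finset.univ.filter (fun j : Fin n => j.val < m) ⊆
        Finset.univ.filter (fun j : Fin n => psum α (j.val + 1) ≤ i.val) := by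
      intro j hj
      simp only [Finset.mem_filter, Finset.mem_univ, true_and] at hj ⊢
      exact (psum_mono α hj).trans hge
    have := Finset.card_le_card hsub
    rw [Fin.card_filter_val_lt, min_eq_right hm] at this
    omega
  · intro h
    rcases m with _ | m
    · simp [psum_zero] at h
    have hsub : Finset.univ.filter (fun j : Fin n => psum α (j.val + 1) ≤ i.val) ⊆
        Finset.univ.filter (fun j : Fin n => j.val < m) := by
      intro j hj
      simp only [Finset.mem_filter, Finset.mem_univ, true_and] at hj ⊢
      by_contra hge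
      have := psum_mono α (show m + 1 ≤ j.val + 1 by omega)
      omega
    have := Finset.card_le_card hsub
    rw [Fin.card_filter_val_lt, min_eq_right (by omega)] at this
    omega

theorem compLabel_mono (α : Fin n → ℕ) : Monotone (Cfsg.compLabel α) := by
  intro i i' h
  by_contra hlt
  rw [not_le] at hlt
  have hle : Cfsg.compLabel α i ≤ n := by
    rw [Cfsg.compLabel]
    exact (Finset.card_le_univ _).trans (by simp)
  have h1 : i'.val < psum α (Cfsg.compLabel α i) := (compLabel_lt_iff α i' hle).1 hlt
  have h2 : ¬ i.val < psum α (Cfsg.compLabel α i) := fun hh =>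
    lt_irrefl _ ((compLabel_lt_iff α i hle).2 hh)
  have : i.val ≤ i'.val := h
  omega

theorem compLabel_lt (α : Fin n → ℕ) (hα : ∑ i, α i = n) (i : Fin n) : Cfsg.compLabel α i < n := by
  rw [compLabel_lt_iff α i le_rfl, psum_top, hα]
  exact i.isLt

theorem card_compLabel_lt (α : Fin n → ℕ) (hα : ∑ i, α i = n) {m : ℕ} (hm : m ≤ n) :
    (Finset.univ.filter fun i : Fin n => Cfsg.compLabel α i < m).card = psum α m := by
  have h : Finset.univ.filter (fun i : Fin n => Cfsg.compLabel α i < m) =
      Finset.univ.filter (fun i : Fin n => i.val < psum α m) :=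
    Finset.filter_congr fun i _ => compLabel_lt_iff α i hm
  rw [h, Fin.card_filter_val_lt, min_eq_right]
  have := psum_mono α hm
  rw [psum_top, hα] at this
  exact this

theorem card_compLabel_eq (α : Fin n → ℕ) (hα : ∑ i, α i = n) (j : Fin n) :
    (Finset.univ.filter fun i : Fin n => Cfsg.compLabel α i = j.val).card = α j := by
  classical
  have h1 := card_compLabel_lt α hα (show j.val + 1 ≤ n by omega)
  have h2 := card_compLabel_lt α hα (show j.val ≤ n by omega)
  have h : Finset.univ.filter (fun i : Fin n => Cfsg.compLabel α i < j.val + 1) =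
      Finset.univ.filter (fun i : Fin n => Cfsg.compLabel α i < j.val) ∪
        Finset.univ.filter (fun i : Fin n => Cfsg.compLabel α i = j.val) := by
    ext i
    simp only [Finset.mem_union, Finset.mem_filter, Finset.mem_univ, true_and]
    omega
  rw [h, Finset.card_union_of_disjoint, h2, psum_succ] at h1
  · omega
  · rw [Finset.disjoint_filter]
    intro i _ h h'
    omega

/-- the block label as an element of `Fin n` -/
def lab (α : Fin n → ℕ) (hα : ∑ i, α i = n) (i : Fin n) : Fin n :=
  ⟨Cfsg.compLabel α i, compLabel_lt α hα i⟩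

theorem lab_mono (α : Fin n → ℕ) (hα : ∑ i, α i = n) : Monotone (lab α hα) :=
  fun _ _ h => compLabel_mono α h

theorem card_lab_fiber (α : Fin n → ℕ) (hα : ∑ i, α i = n) (j : Fin n) :
    Nat.card {i : Fin n // lab α hα i = j} = α j := by
  rw [Nat.card_eq_fintype_card, Fintype.card_subtype]
  conv_rhs => rw [← card_compLabel_eq α hα j]
  congr 1
  exact Finset.filter_congr fun i _ => Fin.ext_iff

end Cfsg.Agent.Lib.Flag
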