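import Mathlib

/-!
The Cauchy determinant as a statement about numbers of matrices with prescribed margins: the alternating
sums of these numbers over shifted strictly increasing margins are orthonormal.
-/

set_option autoImplicit false

namespace Cfsg.Agent.Lib.Flag

open MvPowerSeries

/-- number of natural matrices with row sums `α` and column sums `β` -/
noncomputable def numMat {n : ℕ} (α β : Fin n → ℕ) : ℕ :=
  Nat.card {M : Fin n → Fin n → ℕ // (∀ i, ∑ j, M i j = α i) ∧ ∀ j, ∑ i, M i j = β j}

variable {n : ℕ}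

abbrev PS (n : ℕ) := MvPowerSeries (Fin n ⊕ Fin n) ℤ

/-- exponent vector -/
noncomputable def expo (u v : Fin n → ℕ) : (Fin n ⊕ Fin n) →₀ ℕ :=
  Finsupp.equivFunOnFinite.symm (Sum.elim u v)

@[simp] theorem expo_inl (u v : Fin n → ℕ) (i : Fin n) : expo u v (Sum.inl i) = u i := rfl

@[simp] theorem expo_inr (u v : Fin n → ℕ) (i : Fin n) : expo u v (Sum.inr i) = v i := rfl

theorem expo_ext {u v : Fin n → ℕ} {d : (Fin n ⊕ Fin n) →₀ ℕ}
    (h1 : ∀ i, d (Sum.inl i) = u i) (h2 : ∀ i, d (Sum.inr i) = v i) : d = expo u v := by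
  ext s
  rcases s with s | s
  · exact h1 s
  · exact h2 s

theorem expo_le_iff (u v u' v' : Fin n → ℕ) :
    expo u v ≤ expo u' v' ↔ (∀ i, u i ≤ u' i) ∧ ∀ i, v i ≤ v' i := by
  constructor
  · intro h
    exact ⟨fun i => h (Sum.inl i), fun i => h (Sum.inr i)⟩
  · rintro ⟨h1, h2⟩ (s | s)
    · exact h1 s
    · exact h2 s

/-- exponent of `x_i y_j` -/
noncomputable def cell (p : Fin n × Fin n) : (Fin n ⊕ Fin n) →₀ ℕ :=
  Finsupp.single (Sum.inl p.1) 1 + Finsupp.single (Sum.inr p.2) 1

theorem smul_cell_inl (k : ℕ) (p : Fin n × Fin n) (i : Fin n) :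
    (k • cell p) (Sum.inl i) = if p.1 = i then k else 0 := by
  simp [cell, Finsupp.single_apply]

theorem smul_cell_inr (k : ℕ) (p : Fin n × Fin n) (i : Fin n) :
    (k • cell p) (Sum.inr i) = if p.2 = i then k else 0 := by
  simp [cell, Finsupp.single_apply]

theorem cell_ne_zero (p : Fin n × Fin n) : cell p ≠ 0 := fun h => by
  have := congrArg (fun d : (Fin n ⊕ Fin n) →₀ ℕ => d (Sum.inl p.1)) h
  simp [cell] at this

theorem smul_cell_inj {p : Fin n × Fin n} {j k : ℕ} (h : j • cell p = k • cell p) : j = k := by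
  have := congrArg (fun d : (Fin n ⊕ Fin n) →₀ ℕ => d (Sum.inl p.1)) h
  simpa [smul_cell_inl] using this

open scoped Classical in
/-- the geometric series in `x_i y_j` -/
noncomputable def geo (p : Fin n × Fin n) : PS n :=
  fun d => if ∃ k : ℕ, d = k • cell p then 1 else 0

open scoped Classical in
theorem coeff_geo (p : Fin n × Fin n) (d : (Fin n ⊕ Fin n) →₀ ℕ) :
    coeff d (geo p) = if ∃ k : ℕ, d = k • cell p then 1 else 0 := rfl

/-- `x_i` -/
noncomputable def xs (i : Fin n) : PS n := X (Sum.inl i)

/-- `y_j` -/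
noncomputable def ys (i : Fin n) : PS n := X (Sum.inr i)

theorem xs_mul_ys (p : Fin n × Fin n) : xs p.1 * ys p.2 = monomial (cell p) (1 : ℤ) := by
  rw [xs, ys, X_def, X_def, monomial_mul_monomial, one_mul]
  rfl

theorem one_sub_mul_geo (p : Fin n × Fin n) : (1 - xs p.1 * ys p.2) * geo p = 1 := by
  classical
  rw [xs_mul_ys, sub_mul, one_mul]
  ext d
  rw [map_sub, coeff_monomial_mul, coeff_geo, coeff_geo, one_mul, MvPowerSeries.coeff_one]
  by_cases hd : d = 0
  · subst hd
    rw [if_pos ⟨0, (zero_smul _ _).symm⟩, if_neg, if_pos rfl, sub_zero]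
    intro h
    exact cell_ne_zero p (le_antisymm h zero_le)
  rw [if_neg hd]
  by_cases hk : ∃ k : ℕ, d = k • cell p
  · obtain ⟨k, rfl⟩ := hk
    obtain ⟨k, rfl⟩ : ∃ j, k = j + 1 := by
      rcases k with _ | k
      · exact absurd (zero_smul _ _) hd
      · exact ⟨k, rfl⟩
    have hle : cell p ≤ (k + 1) • cell p := by rw [succ_nsmul]; exact le_add_self
    have heq : (k + 1) • cell p - cell p = k • cell p := by rw [succ_nsmul, add_tsub_cancel_right]
    rw [if_pos ⟨k + 1, rfl⟩, if_pos hle, if_pos ⟨k, heq⟩, sub_self]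
  · rw [if_neg hk, zero_sub, neg_eq_zero]
    split_ifs with h1 h2
    · obtain ⟨k, hk2⟩ := h2
      exact absurd ⟨k + 1, by rw [succ_nsmul, ← hk2, tsub_add_cancel_of_le h1]⟩ hk
    · rfl
    · rfl

/-- `∏_{i,j} 1/(1 - x_i y_j)` -/
noncomputable def cauchyProd (n : ℕ) : PS n := ∏ p : Fin n × Fin n, geo p

theorem sum_smul_cell (M : Fin n → Fin n → ℕ) :
    ∑ p : Fin n × Fin n, M p.1 p.2 • cell p = expo (fun i => ∑ j, M i j) (fun j => ∑ i, M i j) := by
  apply expo_ext
  · intro i
    rw [Finsupp.finset_sum_apply]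
    simp only [smul_cell_inl]
    rw [Fintype.sum_prod_type, Finset.sum_eq_single i]
    · simp
    · intro a _ ha
      simp [ha]
    · simp
  · intro j
    rw [Finsupp.finset_sum_apply]
    simp only [smul_cell_inr]
    rw [Fintype.sum_prod_type]
    refine Finset.sum_congr rfl fun a _ => ?_
    rw [Finset.sum_eq_single j]
    · simp
    · intro b _ hb
      simp [hb]
    · simp

open scoped Classical in
theorem sum_prod_ite {α ι : Type*} [Fintype ι] (s : Finset α) (P : α → ι → Prop) :
    ∑ a ∈ s, ∏ i : ι, (if P a i then (1 : ℤ) else 0) =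
      (Nat.card {a // a ∈ s ∧ ∀ i, P a i} : ℤ) := by
  rw [Nat.card_congr (Equiv.subtypeEquivRight (q := (· ∈ s.filter fun a => ∀ i, P a i))
    fun a => Finset.mem_filter.symm), Nat.card_eq_finsetCard, Finset.card_filter, Nat.cast_sum]
  refine Finset.sum_congr rfl fun a _ => ?_
  by_cases h : ∀ i, P a i
  · rw [if_pos h, Finset.prod_eq_one fun i _ => if_pos (h i)]; simp
  · rw [if_neg h]
    push Not at h
    obtain ⟨i, hi⟩ := h
    rw [Finset.prod_eq_zero (Finset.mem_univ i) (if_neg hi)]; simp

theorem coeff_cauchyProd (u v : Fin n → ℕ) : coeff (expo u v) (cauchyProd n) = (numMat u v : ℤ) := by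
  classical
  rw [cauchyProd, coeff_prod]
  simp only [coeff_geo]
  rw [sum_prod_ite]
  rw [Nat.cast_inj, numMat]
  symm
  refine Nat.card_congr (Equiv.ofBijective (fun M => ⟨Finsupp.equivFunOnFinite.symm
      (fun p : Fin n × Fin n => M.1 p.1 p.2 • cell p), ?_⟩) ⟨?_, ?_⟩)
  · rw [Finset.mem_finsuppAntidiag]
    refine ⟨⟨?_, Finset.subset_univ _⟩, fun p => ⟨M.1 p.1 p.2, rfl⟩⟩
    show ∑ p : Fin n × Fin n, M.1 p.1 p.2 • cell p = _
    rw [sum_smul_cell, funext M.2.1, funext M.2.2]
  · intro M M' h
    apply Subtype.ext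
    funext i j
    have := DFunLike.congr_fun (Subtype.ext_iff.1 h) (i, j)
    exact smul_cell_inj this
  · rintro ⟨l, hl⟩
    rw [Finset.mem_finsuppAntidiag] at hl
    choose k hk using hl.2
    have hsum : ∑ p : Fin n × Fin n, k p • cell p = expo u v := by
      rw [← hl.1.1]
      exact Finset.sum_congr rfl fun p _ => (hk p).symm
    have he := (sum_smul_cell (fun i j => k (i, j))).symm.trans hsum
    refine ⟨⟨fun i j => k (i, j), fun i => ?_, fun j => ?_⟩, ?_⟩
    · exact congrArg (fun d : (Fin n ⊕ Fin n) →₀ ℕ => d (Sum.inl i)) he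
    · exact congrArg (fun d : (Fin n ⊕ Fin n) →₀ ℕ => d (Sum.inr j)) he
    · apply Subtype.ext
      ext1 p
      exact (hk p).symm

theorem det_vandermonde_expand {R : Type*} [CommRing R] (v : Fin n → R) :
    (Matrix.vandermonde v).det =
      ∑ κ : Equiv.Perm (Fin n), ((Equiv.Perm.sign κ : ℤ) : R) * ∏ i, v i ^ ((κ i).val) := by
  rw [← Matrix.det_transpose, Matrix.det_apply']
  rfl

theorem prod_xs_pow (k : Fin n → ℕ) : ∏ i, xs i ^ k i = monomial (expo k 0) (1 : ℤ) := by
  simp only [xs, X_pow_eq]
  rw [prod_monomial, Finset.prod_const_one]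
  congr 2
  · apply expo_ext
    · intro i
      simp [Finsupp.finset_sum_apply, Finsupp.single_apply]
    · intro i
      simp [Finsupp.finset_sum_apply, Finsupp.single_apply]

theorem prod_ys_pow (k : Fin n → ℕ) : ∏ i, ys i ^ k i = monomial (expo 0 k) (1 : ℤ) := by
  simp only [ys, X_pow_eq]
  rw [prod_monomial, Finset.prod_const_one]
  congr 2
  · apply expo_ext
    · intro i
      simp [Finsupp.finset_sum_apply, Finsupp.single_apply]
    · intro i
      simp [Finsupp.finset_sum_apply, Finsupp.single_apply]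

theorem expo_add (u v u' v' : Fin n → ℕ) : expo u v + expo u' v' = expo (u + u') (v + v') :=
  expo_ext (fun _ => rfl) (fun _ => rfl)

theorem expo_sub (u v u' v' : Fin n → ℕ) :
    expo u v - expo u' v' = expo (fun i => u i - u' i) (fun i => v i - v' i) :=
  expo_ext (fun _ => rfl) (fun _ => rfl)

theorem coeff_alt_mul_cauchyProd (l m : Fin n → ℕ) :
    coeff (expo l m) ((Matrix.vandermonde (xs (n := n))).det * (Matrix.vandermonde (ys (n := n))).det *
        cauchyProd n) =
      ∑ κ : Equiv.Perm (Fin n), ∑ κ' : Equiv.Perm (Fin n),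
        if (∀ i, (κ i).val ≤ l i) ∧ (∀ i, (κ' i).val ≤ m i) then
          (Equiv.Perm.sign κ : ℤ) * (Equiv.Perm.sign κ' : ℤ) *
            (numMat (fun i => l i - (κ i).val) (fun i => m i - (κ' i).val) : ℤ)
        else 0 := by
  classical
  rw [det_vandermonde_expand, det_vandermonde_expand, Finset.sum_mul_sum, Finset.sum_mul, map_sum]
  refine Finset.sum_congr rfl fun κ _ => ?_
  rw [Finset.sum_mul, map_sum]
  refine Finset.sum_congr rfl fun κ' _ => ?_
  rw [prod_xs_pow, prod_ys_pow, mul_mul_mul_comm, monomial_mul_monomial, one_mul, expo_add,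
    add_zero, zero_add, ← Int.cast_mul, ← smul_eq_mul (a := ((_ : ℤ) : PS n)), smul_eq_mul, mul_assoc,
    ← zsmul_eq_mul, map_zsmul, coeff_monomial_mul, zsmul_eq_mul]
  simp only [expo_le_iff, expo_sub, coeff_cauchyProd, one_mul, mul_ite, mul_zero, Int.cast_id]

open scoped Classical in
theorem coeff_det_geo (l m : Fin n → ℕ) (hl : StrictMono l) (hm : StrictMono m) :
    coeff (expo l m) (Matrix.of fun i j => geo (i, j) : Matrix (Fin n) (Fin n) (PS n)).det =
      if l = m then 1 else 0 := by
  rw [Matrix.det_apply', map_sum]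
  have key : ∀ π : Equiv.Perm (Fin n),
      coeff (expo l m) (∏ i, geo (π i, i)) = if (fun i => l (π i)) = m then 1 else 0 := by
    intro π
    rw [coeff_prod]
    simp only [coeff_geo]
    rw [sum_prod_ite]
    have hs : ∀ k : Fin n → ℕ, ∑ i, k i • cell (π i, i) = expo (fun i => k (π.symm i)) k := by
      intro k
      apply expo_ext
      · intro i
        rw [Finsupp.finset_sum_apply]
        simp only [smul_cell_inl]
        rw [Finset.sum_eq_single (π.symm i)]
        · simp
        · intro b _ hb
          rw [if_neg]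
          intro hbi
          exact hb (by rw [← hbi]; simp)
        · simp
      · intro i
        rw [Finsupp.finset_sum_apply]
        simp only [smul_cell_inr]
        simp
    by_cases h : (fun i => l (π i)) = m
    · rw [if_pos h, show (1 : ℤ) = ((1 : ℕ) : ℤ) from rfl, Nat.cast_inj, Nat.card_eq_one_iff_exists]
      refine ⟨⟨Finsupp.equivFunOnFinite.symm fun i => m i • cell (π i, i), ?_⟩, ?_⟩
      swap
      · rintro ⟨d, hd', hk⟩
        rw [Finset.mem_finsuppAntidiag] at hd'
        have hd := hd'.1
        apply Subtype.ext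
        show d = _
        choose k hk using hk
        have hsum : ∑ i, k i • cell (π i, i) = expo l m := by
          rw [← hd]
          exact Finset.sum_congr rfl fun i _ => (hk i).symm
        rw [hs] at hsum
        ext1 i
        rw [hk i]
        have : k i = m i := congrArg (fun d : (Fin n ⊕ Fin n) →₀ ℕ => d (Sum.inr i)) hsum
        rw [this]
        rfl
      · rw [Finset.mem_finsuppAntidiag]
        refine ⟨⟨?_, Finset.subset_univ _⟩, fun i => ⟨m i, rfl⟩⟩
        show ∑ i, m i • cell (π i, i) = _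
        rw [hs]
        congr 1
        funext i
        have := congrFun h (π.symm i)
        simp only [Equiv.apply_symm_apply] at this
        exact this.symm
    · rw [if_neg h, Nat.cast_eq_zero, Nat.card_eq_zero]
      left
      constructor
      rintro ⟨d, hd, hk⟩
      apply h
      rw [Finset.mem_finsuppAntidiag] at hd
      choose k hk using hk
      have hsum : ∑ i, k i • cell (π i, i) = expo l m := by
        rw [← hd.1]
        exact Finset.sum_congr rfl fun i _ => (hk i).symm
      rw [hs] at hsum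
      funext i
      have h1 : k i = m i := congrArg (fun d : (Fin n ⊕ Fin n) →₀ ℕ => d (Sum.inr i)) hsum
      have h2 : k (π.symm (π i)) = l (π i) :=
        congrArg (fun d : (Fin n ⊕ Fin n) →₀ ℕ => d (Sum.inl (π i))) hsum
      rw [Equiv.symm_apply_apply] at h2
      exact h2.symm.trans h1
  have hterm : ∀ π : Equiv.Perm (Fin n),
      coeff (expo l m) (((Equiv.Perm.sign π : ℤ) : PS n) *
        ∏ i, (Matrix.of fun i j => geo (i, j) : Matrix (Fin n) (Fin n) (PS n)) (π i) i) =
      if (fun i => l (π i)) = m then (Equiv.Perm.sign π : ℤ) else 0 := by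
    intro π
    simp only [Matrix.of_apply]
    rw [← zsmul_eq_mul, map_zsmul, key, zsmul_eq_mul, mul_ite, mul_one, mul_zero, Int.cast_id]
  rw [Finset.sum_congr rfl fun π _ => hterm π]
  by_cases hlm : l = m
  · subst hlm
    rw [if_pos rfl, Finset.sum_eq_single 1]
    · simp
    · intro π _ hπ
      rw [if_neg]
      intro h
      exact hπ (Equiv.ext fun i => hl.injective (congrFun h i))
    · simp
  · rw [if_neg hlm]
    refine Finset.sum_eq_zero fun π _ => if_neg fun h => hlm ?_
    have hr : Set.range l = Set.range m := by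
      rw [← h]
      exact (π.surjective.range_comp l).symm
    exact (hl.range_inj hm).1 hr

theorem natDegree_one_sub_le {R : Type*} [CommRing R] (a : R) :
    (1 - Polynomial.C a * Polynomial.X).natDegree ≤ 1 := by
  compute_degree

theorem sum_coeff_prod_one_sub {R : Type*} [CommRing R] {ι : Type*} [DecidableEq ι] (s : Finset ι)
    (y : ι → R) (z : R) :
    ∑ m ∈ Finset.range (s.card + 1),
      (∏ k ∈ s, (1 - Polynomial.C (y k) * Polynomial.X)).coeff m * z ^ (s.card - m) =
      ∏ k ∈ s, (z - y k) := by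
  induction s using Finset.induction_on with
  | empty => simp
  | insert a s ha ih =>
    rw [Finset.prod_insert ha, Finset.prod_insert ha, Finset.card_insert_of_notMem ha]
    set P := ∏ k ∈ s, (1 - Polynomial.C (y k) * Polynomial.X) with hP
    have hdeg : P.coeff (s.card + 1) = 0 := by
      apply Polynomial.coeff_eq_zero_of_natDegree_lt
      rw [hP]
      refine lt_of_le_of_lt ((Polynomial.natDegree_prod_le s _).trans
        (Finset.sum_le_card_nsmul s _ 1 fun k _ => natDegree_one_sub_le (y k))) ?_
      simp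
    rw [sub_mul, one_mul, mul_assoc]
    simp only [Polynomial.coeff_sub, Polynomial.coeff_C_mul, sub_mul, Finset.sum_sub_distrib]
    have h1 : ∑ m ∈ Finset.range (s.card + 1 + 1), P.coeff m * z ^ (s.card + 1 - m) =
        z * ∑ m ∈ Finset.range (s.card + 1), P.coeff m * z ^ (s.card - m) := by
      rw [Finset.sum_range_succ, hdeg, zero_mul, add_zero, Finset.mul_sum]
      refine Finset.sum_congr rfl fun m hm => ?_
      rw [Finset.mem_range] at hm
      rw [show s.card + 1 - m = (s.card - m) + 1 by omega, pow_succ]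
      ring
    have h2 : ∑ m ∈ Finset.range (s.card + 1 + 1),
        y a * (Polynomial.X * P).coeff m * z ^ (s.card + 1 - m) =
        y a * ∑ m ∈ Finset.range (s.card + 1), P.coeff m * z ^ (s.card - m) := by
      rw [Finset.sum_range_succ', Polynomial.coeff_X_mul_zero, mul_zero, zero_mul, add_zero, Finset.mul_sum]
      refine Finset.sum_congr rfl fun m _ => ?_
      rw [Polynomial.coeff_X_mul, show s.card + 1 - (m + 1) = s.card - m by omega, mul_assoc]
    rw [h1, h2, ih]

theorem det_cauchyNumer {R : Type*} [CommRing R] [IsDomain R] (x y : Fin n → R)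
    (hy : Function.Injective y) :
    (Matrix.of fun i j => ∏ k ∈ Finset.univ.erase j, (1 - x i * y k) : Matrix (Fin n) (Fin n) R).det =
      (Matrix.vandermonde x).det * (Matrix.vandermonde y).det := by
  classical
  let f : Fin n → Polynomial R := fun j =>
    ∏ k ∈ Finset.univ.erase j, (1 - Polynomial.C (y k) * Polynomial.X)
  let Cm : Matrix (Fin n) (Fin n) R := Matrix.of fun j m => (f j).coeff m.val
  have hcard : ∀ j : Fin n, (Finset.univ.erase j).card + 1 = n := fun j => by
    rw [Finset.card_erase_of_mem (Finset.mem_univ j), Finset.card_univ, Fintype.card_fin]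
    have := j.isLt
    omega
  have hfdeg : ∀ j, (f j).natDegree < n := fun j => by
    refine lt_of_le_of_lt ((Polynomial.natDegree_prod_le (Finset.univ.erase j) _).trans
      (Finset.sum_le_card_nsmul (Finset.univ.erase j) _ 1 fun k _ => natDegree_one_sub_le (y k))) ?_
    rw [smul_eq_mul, mul_one]
    have := hcard j
    omega
  have hA : (Matrix.of fun i j => ∏ k ∈ Finset.univ.erase j, (1 - x i * y k) : Matrix (Fin n) (Fin n) R) =
      Matrix.vandermonde x * Cm.transpose := by
    ext i j
    rw [Matrix.mul_apply, Matrix.of_apply]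
    have h := Polynomial.eval_eq_sum_range' (hfdeg j) (x i)
    rw [← Fin.sum_univ_eq_sum_range] at h
    have he : (f j).eval (x i) = ∏ k ∈ Finset.univ.erase j, (1 - x i * y k) := by
      simp only [f, Polynomial.eval_prod, Polynomial.eval_sub, Polynomial.eval_one, Polynomial.eval_mul,
        Polynomial.eval_C, Polynomial.eval_X, mul_comm]
    rw [← he, h]
    refine Finset.sum_congr rfl fun m _ => ?_
    simp only [Matrix.vandermonde_apply, Matrix.transpose_apply, Cm, Matrix.of_apply]
    ring
  have hCD : Cm * (Matrix.projVandermonde (fun _ => (1 : R)) y).transpose =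
      Matrix.diagonal (fun j => ∏ k ∈ Finset.univ.erase j, (y j - y k)) := by
    ext j l
    rw [Matrix.mul_apply]
    have h := sum_coeff_prod_one_sub (Finset.univ.erase j) y (y l)
    rw [hcard j] at h
    have h' : ∑ m : Fin n, Cm j m * (Matrix.projVandermonde (fun _ => (1 : R)) y).transpose m l =
        ∏ k ∈ Finset.univ.erase j, (y l - y k) := by
      rw [← h, ← Fin.sum_univ_eq_sum_range]
      refine Finset.sum_congr rfl fun m _ => ?_
      simp only [Cm, Matrix.of_apply, Matrix.transpose_apply, Matrix.projVandermonde_apply, one_pow,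
        one_mul, Fin.val_rev, f]
      congr 2
      have := hcard j
      omega
    rw [h']
    by_cases hjl : j = l
    · subst hjl
      rw [Matrix.diagonal_apply_eq]
    · rw [Matrix.diagonal_apply_ne _ hjl]
      exact Finset.prod_eq_zero (Finset.mem_erase.2 ⟨Ne.symm hjl, Finset.mem_univ l⟩) (sub_self _)
  have hdetC := congrArg Matrix.det hCD
  rw [Matrix.det_mul, Matrix.det_transpose, Matrix.det_projVandermonde, Matrix.det_diagonal] at hdetC
  simp only [one_mul] at hdetC
  have hsplit : ∀ j : Fin n, ∏ k ∈ Finset.univ.erase j, (y j - y k) =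
      (∏ k ∈ Finset.Ioi j, (y j - y k)) * ∏ k ∈ Finset.Iio j, (y j - y k) := by
    intro j
    rw [← Finset.prod_union]
    · refine Finset.prod_congr ?_ fun _ _ => rfl
      ext k
      simp [lt_or_lt_iff_ne, eq_comm]
    · rw [Finset.disjoint_left]
      intro k hk hk'
      simp only [Finset.mem_Ioi, Finset.mem_Iio] at hk hk'
      exact absurd (hk.trans hk') (lt_irrefl _)
  rw [Finset.prod_congr rfl fun j _ => hsplit j, Finset.prod_mul_distrib] at hdetC
  have hP : ∏ i : Fin n, ∏ j ∈ Finset.Ioi i, (y i - y j) ≠ 0 := by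
    refine Finset.prod_ne_zero_iff.2 fun i _ => Finset.prod_ne_zero_iff.2 fun j hj => ?_
    exact sub_ne_zero.2 fun h => (Finset.mem_Ioi.1 hj).ne (hy h)
  have hswap : ∏ j : Fin n, ∏ k ∈ Finset.Iio j, (y j - y k) =
      ∏ i : Fin n, ∏ j ∈ Finset.Ioi i, (y j - y i) := by
    apply Finset.prod_comm'
    intro a b
    simp
  rw [hswap, mul_comm Cm.det] at hdetC
  rw [hA, Matrix.det_mul, Matrix.det_transpose, mul_left_cancel₀ hP hdetC, Matrix.det_vandermonde y]

theorem det_geo_eq :
    (Matrix.of fun i j => geo (i, j) : Matrix (Fin n) (Fin n) (PS n)).det =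
      (Matrix.vandermonde (xs (n := n))).det * (Matrix.vandermonde (ys (n := n))).det * cauchyProd n := by
  classical
  have hy : Function.Injective (ys (n := n)) := fun a b h => by
    have := congrArg (coeff (Finsupp.single (Sum.inr a) 1)) h
    simp only [ys, MvPowerSeries.coeff_X] at this
    by_contra hne
    simp [Finsupp.single_left_inj, hne] at this
  have : IsDomain (PS n) := NoZeroDivisors.to_isDomain _
  rw [← det_cauchyNumer (xs (n := n)) (ys (n := n)) hy]
  have hG : cauchyProd n = ∏ i : Fin n, ∏ k : Fin n, geo (i, k) := by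
    rw [cauchyProd, Fintype.prod_prod_type]
  rw [hG, mul_comm, ← Matrix.det_mul_column]
  congr 1
  ext i j
  simp only [Matrix.of_apply]
  rw [← Finset.mul_prod_erase _ _ (Finset.mem_univ j), mul_assoc, ← Finset.prod_mul_distrib,
    Finset.prod_eq_one, mul_one]
  intro k _
  rw [mul_comm]
  exact one_sub_mul_geo (i, k)

/-- orthonormality of the alternating sums of margin counts -/
theorem alt_numMat (l m : Fin n → ℕ) (hl : StrictMono l) (hm : StrictMono m) :
    (∑ κ : Equiv.Perm (Fin n), ∑ κ' : Equiv.Perm (Fin n),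
        if (∀ i, (κ i).val ≤ l i) ∧ (∀ i, (κ' i).val ≤ m i) then
          (Equiv.Perm.sign κ : ℤ) * (Equiv.Perm.sign κ' : ℤ) *
            (numMat (fun i => l i - (κ i).val) (fun i => m i - (κ' i).val) : ℤ)
        else 0) = if l = m then 1 else 0 := by
  rw [← coeff_alt_mul_cauchyProd, ← det_geo_eq, coeff_det_geo l m hl hm]

end Cfsg.Agent.Lib.Flag
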