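import Mathlib
import Cfsg.Prelude.Def_LinearParabolics
import Cfsg.Agent.Lib.Flag.Cauchy
import Cfsg.Agent.Lib.Flag.Blocks

/-!
Orbits of the symmetric group on pairs of Young cosets are the matrices with prescribed margins.
-/

set_option autoImplicit false

namespace Cfsg.Agent.Lib.Flag

theorem card_orbits_pair {G : Type*} [Group G] (H K : Subgroup G) {Z : Type*} (f : G → Z)
    (hinv : ∀ g : G, ∀ h ∈ H, ∀ k ∈ K, f (h * g * k) = f g)
    (hsep : ∀ g g' : G, f g = f g' → ∃ h ∈ H, ∃ k ∈ K, g' = h * g * k) :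
    Nat.card (Quotient (MulAction.orbitRel G ((G ⧸ H) × (G ⧸ K)))) = Nat.card (Set.range f) := by
  let φ : (G ⧸ H) × (G ⧸ K) → Z := fun p =>
    Quotient.liftOn₂' p.1 p.2 (fun x y => f (x⁻¹ * y)) (by
      intro x y x' y' hx hy
      rw [QuotientGroup.leftRel_apply] at hx hy
      have h := hinv (x⁻¹ * y) (x⁻¹ * x')⁻¹ (H.inv_mem hx) (y⁻¹ * y') hy
      rw [← h]
      congr 1
      group)
  have hφ : ∀ x y : G, φ (QuotientGroup.mk x, QuotientGroup.mk y) = f (x⁻¹ * y) := fun _ _ => rfl
  have hφs : ∀ (g : G) p, φ (g • p) = φ p := by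
    rintro g ⟨a, b⟩
    induction a using QuotientGroup.induction_on with
    | _ x =>
    induction b using QuotientGroup.induction_on with
    | _ y =>
    show φ (QuotientGroup.mk (g * x), QuotientGroup.mk (g * y)) = _
    rw [hφ, hφ]
    congr 1
    group
  refine Nat.card_congr (Equiv.ofBijective
    (fun o => ⟨Quotient.liftOn o φ (fun p p' hp => by
      obtain ⟨g, rfl⟩ := hp
      exact hφs g p'), ?_⟩) ⟨?_, ?_⟩)
  · induction o using Quotient.inductionOn with
    | _ p =>
    obtain ⟨a, b⟩ := p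
    induction a using QuotientGroup.induction_on with
    | _ x =>
    induction b using QuotientGroup.induction_on with
    | _ y => exact ⟨x⁻¹ * y, rfl⟩
  · intro o o' h
    have h' := congrArg Subtype.val h
    clear h
    induction o using Quotient.inductionOn with
    | _ p =>
    induction o' using Quotient.inductionOn with
    | _ p' =>
    obtain ⟨a, b⟩ := p
    obtain ⟨a', b'⟩ := p'
    induction a using QuotientGroup.induction_on with
    | _ x =>
    induction b using QuotientGroup.induction_on with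
    | _ y =>
    induction a' using QuotientGroup.induction_on with
    | _ x' =>
    induction b' using QuotientGroup.induction_on with
    | _ y' =>
    obtain ⟨h, hh, k, hk, heq⟩ := hsep _ _ (show f (x⁻¹ * y) = f (x'⁻¹ * y') from h')
    refine Quotient.sound ⟨x * h⁻¹ * x'⁻¹, Prod.ext ?_ ?_⟩
    · show QuotientGroup.mk (x * h⁻¹ * x'⁻¹ * x') = (QuotientGroup.mk x : G ⧸ H)
      rw [QuotientGroup.eq, show (x * h⁻¹ * x'⁻¹ * x')⁻¹ * x = h by group]
      exact hh
    · show QuotientGroup.mk (x * h⁻¹ * x'⁻¹ * y') = (QuotientGroup.mk y : G ⧸ K)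
      rw [QuotientGroup.eq, mul_assoc (x * h⁻¹), heq,
        show (x * h⁻¹ * (h * (x⁻¹ * y) * k))⁻¹ * y = k⁻¹ by group]
      exact K.inv_mem hk
  · rintro ⟨z, g, rfl⟩
    refine ⟨Quotient.mk _ (QuotientGroup.mk 1, QuotientGroup.mk g), Subtype.ext ?_⟩
    show f (1⁻¹ * g) = f g
    rw [inv_one, one_mul]

variable {n : ℕ} (α β : Fin n → ℕ) (hα : ∑ i, α i = n) (hβ : ∑ i, β i = n)

/-- the relative position matrix of a permutation -/
noncomputable def relMat (w : Equiv.Perm (Fin n)) (a b : Fin n) : ℕ :=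
  Nat.card {j : Fin n // lab α hα (w j) = a ∧ lab β hβ j = b}

theorem mem_young_iff (u : Equiv.Perm (Fin n)) :
    u ∈ Cfsg.youngSubgroup α ↔ ∀ i, lab α hα (u i) = lab α hα i := by
  constructor
  · intro h i; exact Fin.ext (h i)
  · intro h i; exact congrArg Fin.val (h i)

theorem relMat_inv (w u v : Equiv.Perm (Fin n)) (hu : u ∈ Cfsg.youngSubgroup α)
    (hv : v ∈ Cfsg.youngSubgroup β) : relMat α β hα hβ (u * w * v) = relMat α β hα hβ w := by
  funext a b
  rw [mem_young_iff α hα] at hu
  rw [mem_young_iff β hβ] at hv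
  refine Nat.card_congr (v.subtypeEquiv fun j => ?_)
  rw [Equiv.Perm.mul_apply, Equiv.Perm.mul_apply, hu, hv]

theorem relMat_sep (w w' : Equiv.Perm (Fin n)) (h : relMat α β hα hβ w = relMat α β hα hβ w') :
    ∃ u ∈ Cfsg.youngSubgroup α, ∃ v ∈ Cfsg.youngSubgroup β, w' = u * w * v := by
  classical
  let k : Fin n → Fin n × Fin n := fun j => (lab α hα (w j), lab β hβ j)
  let k' : Fin n → Fin n × Fin n := fun j => (lab α hα (w' j), lab β hβ j)
  have hfib : ∀ y, {j // k' j = y} ≃ {j // k j = y} := fun y => Classical.choice (Finite.card_eq.1 (by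
    have h1 := congrFun (congrFun h.symm y.1) y.2
    simp only [relMat] at h1
    obtain ⟨a, b⟩ := y
    simpa [k, k', Prod.ext_iff] using h1))
  let v : Equiv.Perm (Fin n) := Equiv.ofFiberEquiv hfib
  have hv : ∀ j, k (v j) = k' j := fun j => Equiv.ofFiberEquiv_map hfib j
  refine ⟨w' * v⁻¹ * w⁻¹, ?_, v, ?_, by group⟩
  · rw [mem_young_iff α hα]
    intro i
    have h1 : lab α hα (w (v (v⁻¹ (w⁻¹ i)))) = lab α hα (w' (v⁻¹ (w⁻¹ i))) :=
      congrArg Prod.fst (hv (v⁻¹ (w⁻¹ i)))
    simp only [Equiv.Perm.coe_mul, Function.comp_apply] at h1 ⊢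
    simpa using h1.symm
  · rw [mem_young_iff β hβ]
    exact fun j => congrArg Prod.snd (hv j)

theorem range_relMat : Set.range (relMat α β hα hβ) =
    {M : Fin n → Fin n → ℕ | (∀ i, ∑ j, M i j = α i) ∧ ∀ j, ∑ i, M i j = β j} := by
  classical
  ext M
  constructor
  · rintro ⟨w, rfl⟩
    constructor
    · intro a
      rw [← card_lab_fiber α hα a]
      simp only [relMat, Nat.card_eq_fintype_card, Fintype.card_subtype]
      rw [← Finset.card_map w.symm.toEmbedding,
        ← Finset.sum_congr rfl (fun b _ => rfl), Finset.card_eq_sum_card_fiberwise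
          (f := fun j => lab β hβ j) (t := Finset.univ) (fun _ _ => Finset.mem_univ _)]
      refine Finset.sum_congr rfl fun b _ => ?_
      congr 1
      ext j
      simp
    · intro b
      rw [← card_lab_fiber β hβ b]
      simp only [relMat, Nat.card_eq_fintype_card, Fintype.card_subtype]
      rw [Finset.card_eq_sum_card_fiberwise
        (f := fun j => lab α hα (w j)) (t := Finset.univ) (fun _ _ => Finset.mem_univ _)]
      refine Finset.sum_congr rfl fun a _ => ?_
      congr 1
      ext j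
      simp [and_comm]
  · rintro ⟨hr, hc⟩
    let T := Σ p : Fin n × Fin n, Fin (M p.1 p.2)
    have h1 : ∀ a, {t : T // t.1.1 = a} ≃ {i : Fin n // lab α hα i = a} := fun a =>
      Classical.choice (Finite.card_eq.1 (by
        rw [card_lab_fiber]
        rw [Nat.card_congr (show {t : T // t.1.1 = a} ≃ Σ b, Fin (M a b) from
          { toFun := fun t => ⟨t.1.1.2, Fin.cast (by obtain ⟨⟨⟨u, w⟩, x⟩, hu⟩ := t; subst hu; rfl) t.1.2⟩
            invFun := fun s => ⟨⟨(a, s.1), s.2⟩, rfl⟩
            left_inv := by rintro ⟨⟨⟨a', b⟩, x⟩, h⟩; subst h; rfl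
            right_inv := fun s => rfl })]
        rw [Nat.card_sigma]
        simpa using hr a))
    have h2 : ∀ b, {t : T // t.1.2 = b} ≃ {i : Fin n // lab β hβ i = b} := fun b =>
      Classical.choice (Finite.card_eq.1 (by
        rw [card_lab_fiber]
        rw [Nat.card_congr (show {t : T // t.1.2 = b} ≃ Σ a, Fin (M a b) from
          { toFun := fun t => ⟨t.1.1.1, Fin.cast (by obtain ⟨⟨⟨u, w⟩, x⟩, hu⟩ := t; subst hu; rfl) t.1.2⟩
            invFun := fun s => ⟨⟨(s.1, b), s.2⟩, rfl⟩
            left_inv := by rintro ⟨⟨⟨a, b'⟩, x⟩, h⟩; subst h; rfl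
            right_inv := fun s => rfl })]
        rw [Nat.card_sigma]
        simpa using hc b))
    let e1 : T ≃ Fin n := Equiv.ofFiberEquiv h1
    let e2 : T ≃ Fin n := Equiv.ofFiberEquiv h2
    refine ⟨e2.symm.trans e1, ?_⟩
    funext a b
    have he1 : ∀ t, lab α hα (e1 t) = t.1.1 := fun t => Equiv.ofFiberEquiv_map h1 t
    have he2 : ∀ t, lab β hβ (e2 t) = t.1.2 := fun t => Equiv.ofFiberEquiv_map h2 t
    have : Nat.card {t : T // t.1 = (a, b)} = M a b := by
      rw [Nat.card_congr (Equiv.sigmaSubtype (a, b)), Nat.card_fin]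
    refine Eq.trans ?_ this
    refine Nat.card_congr (e2.symm.subtypeEquiv fun j => ?_)
    rw [Equiv.trans_apply, he1, Prod.ext_iff, ← he2, Equiv.apply_symm_apply]

theorem card_range_relMat : Nat.card (Set.range (relMat α β hα hβ)) = numMat α β := by
  rw [range_relMat]
  rfl

theorem card_orbits_young (hα : ∑ i, α i = n) (hβ : ∑ i, β i = n) :
    Nat.card (Quotient (MulAction.orbitRel (Equiv.Perm (Fin n))
      ((Equiv.Perm (Fin n) ⧸ Cfsg.youngSubgroup α) × (Equiv.Perm (Fin n) ⧸ Cfsg.youngSubgroup β)))) =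
      numMat α β := by
  rw [card_orbits_pair _ _ (relMat α β hα hβ) (fun g h hh k hk => relMat_inv α β hα hβ g h k hh hk)
    (fun g g' h => relMat_sep α β hα hβ g g' h), card_range_relMat]

end Cfsg.Agent.Lib.Flag
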