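import Mathlib
import Cfsg.Prelude.Def_LinearParabolics
import Cfsg.Agent.Lib.Flag.SymOrbits

/-!
Orbits of `GL_n` on pairs of partial flags: Bruhat decomposition and separation by dimensions.
-/

set_option autoImplicit false

namespace Cfsg.Agent.Lib.Flag

open scoped MatrixGroups
open Module

variable {F : Type*} [Field F] {n : ℕ}

/-- the permutation matrix of `w`, sending the `j`-th basis vector to the `w j`-th one -/
noncomputable def permGL (w : Equiv.Perm (Fin n)) : GL (Fin n) F :=
  { val := Matrix.of fun i j => if i = w j then 1 else 0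
    inv := Matrix.of fun i j => if i = w.symm j then 1 else 0
    val_inv := by
      ext i j
      rw [Matrix.mul_apply, Finset.sum_eq_single (w.symm j)]
      · simp [Matrix.one_apply]
      · intro b _ hb
        simp [hb]
      · simp
    inv_val := by
      ext i j
      rw [Matrix.mul_apply, Finset.sum_eq_single (w j)]
      · simp [Matrix.one_apply]
      · intro b _ hb
        simp [hb]
      · simp }

theorem permGL_apply (w : Equiv.Perm (Fin n)) (i j : Fin n) :
    (permGL (F := F) w : Matrix (Fin n) (Fin n) F) i j = if i = w j then 1 else 0 := rfl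

theorem permGL_mul (w w' : Equiv.Perm (Fin n)) :
    permGL (F := F) (w * w') = permGL w * permGL w' := by
  apply Units.ext
  ext i j
  rw [Units.val_mul, Matrix.mul_apply, Finset.sum_eq_single (w' j)]
  · simp only [permGL_apply, if_pos, mul_one, Equiv.Perm.mul_apply]; congr
  · intro b _ hb
    simp [permGL_apply, hb]
  · simp

theorem permGL_mem_parabolic {α : Fin n → ℕ} {u : Equiv.Perm (Fin n)}
    (hu : u ∈ Cfsg.youngSubgroup α) : permGL (F := F) u ∈ Cfsg.parabolicGL n F α := by
  intro i j h
  rw [permGL_apply, if_neg]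
  rintro rfl
  exact (hu j).not_gt h

theorem mem_parabolic_of_upper {α : Fin n → ℕ} {g : GL (Fin n) F}
    (hg : ∀ i j : Fin n, j < i → (g : Matrix (Fin n) (Fin n) F) i j = 0) :
    g ∈ Cfsg.parabolicGL n F α := by
  intro i j h
  refine hg i j ?_
  by_contra hle
  exact (compLabel_mono α (not_lt.1 hle)).not_gt h

/-- Bruhat decomposition -/
theorem exists_bruhat [Finite F] (g : GL (Fin n) F) : ∃ (b b' : GL (Fin n) F) (w : Equiv.Perm (Fin n)),
    (∀ i j : Fin n, j < i → (b : Matrix (Fin n) (Fin n) F) i j = 0) ∧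
    (∀ i j : Fin n, j < i → (b' : Matrix (Fin n) (Fin n) F) i j = 0) ∧
    g = b * permGL w * b' := by
  classical
  let top : (Fin n → F) → ℕ := fun v => (Finset.univ.filter fun i => v i ≠ 0).sup fun i => i.val + 1
  let g' : Matrix (Fin n) (Fin n) F := g
  let cand : Fin n → Set (Fin n → F) := fun j =>
    {c | c j = 1 ∧ ∀ i, j < i → c i = 0}
  have hne : ∀ j, (cand j).Nonempty := fun j => ⟨Pi.single j 1, Pi.single_eq_same j 1,
    fun i hi => Pi.single_eq_of_ne hi.ne' 1⟩
  have hex : ∀ j, ∃ c ∈ cand j, ∀ d ∈ cand j, top (g'.mulVec c) ≤ top (g'.mulVec d) := fun j =>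
    Set.exists_min_image _ _ (Set.toFinite _) (hne j)
  choose c hc hmin using hex
  let v : Fin n → Fin n → F := fun j => g'.mulVec (c j)
  have hinj : ∀ x : Fin n → F, g'.mulVec x = 0 → x = 0 := fun x hx => by
    have h := congrArg ((g⁻¹ : GL (Fin n) F) : Matrix (Fin n) (Fin n) F).mulVec hx
    rwa [Matrix.mulVec_mulVec, Units.inv_mul, Matrix.one_mulVec, Matrix.mulVec_zero] at h
  have hv0 : ∀ j, ∃ i, v j i ≠ 0 := by
    intro j
    by_contra h
    push Not at h
    have := congrFun (hinj (c j) (funext h)) j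
    rw [(hc j).1] at this
    simp at this
  have hpiv : ∀ j, ∃ i, v j i ≠ 0 ∧ ∀ i', i < i' → v j i' = 0 := by
    intro j
    obtain ⟨i0, hi0⟩ := hv0 j
    obtain ⟨i, hi, hmax⟩ := Finset.exists_max_image (Finset.univ.filter fun i => v j i ≠ 0) id
      ⟨i0, Finset.mem_filter.2 ⟨Finset.mem_univ _, hi0⟩⟩
    refine ⟨i, (Finset.mem_filter.1 hi).2, fun i' hi' => ?_⟩
    by_contra h
    exact (hmax i' (Finset.mem_filter.2 ⟨Finset.mem_univ _, h⟩)).not_gt hi'
  choose p hp0 hpz using hpiv
  have htop : ∀ j, top (v j) = (p j).val + 1 := by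
    intro j
    apply le_antisymm
    · refine Finset.sup_le fun i hi => ?_
      by_contra h
      exact (Finset.mem_filter.1 hi).2 (hpz j i (Fin.lt_def.2 (by omega)))
    · exact Finset.le_sup (f := fun i : Fin n => i.val + 1) (Finset.mem_filter.2 ⟨Finset.mem_univ _, hp0 j⟩)
  have hpinj : Function.Injective p := by
    intro j j' h
    by_contra hne'
    wlog hlt : j < j' generalizing j j' with H
    · exact H h.symm (Ne.symm hne') (lt_of_le_of_ne (not_lt.1 hlt) (Ne.symm hne'))
    -- reduce the later column by the earlier one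
    let t : F := v j' (p j') / v j (p j)
    let d : Fin n → F := c j' - t • c j
    have hd : d ∈ cand j' := by
      refine ⟨?_, fun i hi => ?_⟩
      · simp [d, (hc j').1, (hc j).2 j' hlt]
      · simp [d, (hc j').2 i hi, (hc j).2 i (hlt.trans hi)]
    have hgd : g'.mulVec d = v j' - t • v j := by
      simp [d, v, Matrix.mulVec_sub, Matrix.mulVec_smul]
    have hzero : ∀ i, p j' ≤ i → g'.mulVec d i = 0 := by
      intro i hi
      rw [hgd]
      rcases hi.eq_or_lt with rfl | hi
      · have e : v j (p j') ≠ 0 := h ▸ hp0 j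
        simp only [Pi.sub_apply, Pi.smul_apply, smul_eq_mul, t, h]
        field_simp
        ring
      · simp [hpz j' i hi, hpz j i (h ▸ hi)]
    have hle := hmin j' d hd
    rw [show g'.mulVec (c j') = v j' from rfl, htop j'] at hle
    have : top (g'.mulVec d) ≤ (p j').val := by
      refine Finset.sup_le fun i hi => ?_
      by_contra h'
      exact (Finset.mem_filter.1 hi).2 (hzero i (Fin.le_def.2 (by omega)))
    omega
  let w : Equiv.Perm (Fin n) := Equiv.ofBijective p (Finite.injective_iff_bijective.1 hpinj)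
  have hw : ∀ j, w j = p j := fun j => rfl
  let U : Matrix (Fin n) (Fin n) F := Matrix.of fun i j => c j i
  have hU : U.BlockTriangular id := fun i j h => (hc j).2 i h
  have hdetU : U.det = 1 := by
    rw [Matrix.det_of_upperTriangular hU]
    exact Finset.prod_eq_one fun j _ => (hc j).1
  let Ug : GL (Fin n) F := Matrix.GeneralLinearGroup.mkOfDetNeZero U (by rw [hdetU]; exact one_ne_zero)
  refine ⟨g * Ug * (permGL w)⁻¹, Ug⁻¹, w, ?_, ?_, by group⟩
  · intro i j hij
    have key : ((g * Ug * (permGL w)⁻¹ : GL (Fin n) F) : Matrix (Fin n) (Fin n) F) i j = v (w.symm j) i := by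
      rw [Units.val_mul, Matrix.mul_apply, Finset.sum_eq_single (w.symm j)]
      · show ((g * Ug : GL (Fin n) F) : Matrix (Fin n) (Fin n) F) i (w.symm j) *
          (if w.symm j = w.symm j then 1 else 0) = _
        rw [if_pos rfl, mul_one, Units.val_mul, Matrix.mul_apply]
        rfl
      · intro b _ hb
        show _ * (if b = w.symm j then (1 : F) else 0) = 0
        rw [if_neg hb, mul_zero]
      · simp
    rw [key]
    apply hpz
    rw [← hw, Equiv.apply_symm_apply]
    exact hij
  · have : Ug ∈ Cfsg.upperTriangularGL n F := hU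
    exact fun i j h => ((Cfsg.upperTriangularGL n F).inv_mem this) h

/-- the coordinate subspace of the labels `< a` -/
noncomputable def coordSub (α : Fin n → ℕ) (a : ℕ) : Submodule F (Fin n → F) :=
  Submodule.span F ((Pi.basisFun F (Fin n)) '' {i | Cfsg.compLabel α i < a})

theorem single_mem_coordSub {α : Fin n → ℕ} {a : ℕ} {i : Fin n} (h : Cfsg.compLabel α i < a) :
    (Pi.single i 1 : Fin n → F) ∈ coordSub α a :=
  Submodule.subset_span ⟨i, h, Pi.basisFun_apply F (Fin n) i⟩

theorem map_coordSub_le {α : Fin n → ℕ} {g : GL (Fin n) F} (hg : g ∈ Cfsg.parabolicGL n F α) (a : ℕ) :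
    (coordSub α a).map (Matrix.toLin' (g : Matrix (Fin n) (Fin n) F)) ≤ coordSub α a := by
  rw [coordSub, Submodule.map_span, Submodule.span_le]
  rintro _ ⟨_, ⟨j, hj, rfl⟩, rfl⟩
  rw [Pi.basisFun_apply, Matrix.toLin'_apply, Matrix.mulVec_single_one]
  have : (g : Matrix (Fin n) (Fin n) F).col j =
      ∑ i, (g : Matrix (Fin n) (Fin n) F) i j • (Pi.single i 1 : Fin n → F) := by
    funext k
    simp [Pi.single_apply]
  rw [this]
  refine Submodule.sum_mem _ fun i _ => ?_
  by_cases h : Cfsg.compLabel α j < Cfsg.compLabel α i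
  · rw [hg h, zero_smul]
    exact zero_mem _
  · exact Submodule.smul_mem _ _ (single_mem_coordSub (lt_of_le_of_lt (not_lt.1 h) hj))

theorem map_coordSub {α : Fin n → ℕ} {g : GL (Fin n) F} (hg : g ∈ Cfsg.parabolicGL n F α) (a : ℕ) :
    (coordSub α a).map (Matrix.toLin' (g : Matrix (Fin n) (Fin n) F)) = coordSub α a := by
  refine le_antisymm (map_coordSub_le hg a) ?_
  intro x hx
  refine ⟨Matrix.toLin' ((g⁻¹ : GL (Fin n) F) : Matrix (Fin n) (Fin n) F) x,
    map_coordSub_le ((Cfsg.parabolicGL n F α).inv_mem hg) a ⟨x, hx, rfl⟩, ?_⟩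
  rw [Matrix.toLin'_apply, Matrix.toLin'_apply, Matrix.mulVec_mulVec, Units.mul_inv, Matrix.one_mulVec]

/-- dimensions separating the double cosets -/
noncomputable def relDim (α β : Fin n → ℕ) (g : GL (Fin n) F) (a b : Fin (n + 1)) : ℕ :=
  finrank F ((coordSub β b.val).map (Matrix.toLin' (g : Matrix (Fin n) (Fin n) F)) ⊔ coordSub α a.val :
    Submodule F (Fin n → F))

theorem relDim_inv (α β : Fin n → ℕ) (g h k : GL (Fin n) F) (hh : h ∈ Cfsg.parabolicGL n F α)
    (hk : k ∈ Cfsg.parabolicGL n F β) : relDim α β (h * g * k) = relDim α β g := by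
  funext a b
  rw [relDim, relDim]
  have e1 : (coordSub β b.val).map (Matrix.toLin' ((h * g * k : GL (Fin n) F) : Matrix (Fin n) (Fin n) F)) =
      ((coordSub β b.val).map (Matrix.toLin' (g : Matrix (Fin n) (Fin n) F))).map
        (Matrix.toLin' (h : Matrix (Fin n) (Fin n) F)) := by
    rw [Units.val_mul, Matrix.toLin'_mul, Submodule.map_comp, map_coordSub hk, Units.val_mul,
      Matrix.toLin'_mul, Submodule.map_comp]
  rw [e1]
  conv_lhs => rw [← map_coordSub hh a.val, ← Submodule.map_sup]
  exact (Submodule.equivMapOfInjective (Matrix.toLin' (h : Matrix (Fin n) (Fin n) F))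
    (fun x y hxy => by
      have := congrArg ((h⁻¹ : GL (Fin n) F) : Matrix (Fin n) (Fin n) F).mulVec
        (by simpa [Matrix.toLin'_apply] using hxy)
      simpa [Matrix.mulVec_mulVec] using this) _).finrank_eq.symm

theorem relDim_permGL (α β : Fin n → ℕ) (w : Equiv.Perm (Fin n)) (a b : Fin (n + 1)) :
    relDim (F := F) α β (permGL w) a b =
      Nat.card {j : Fin n // Cfsg.compLabel β j < b.val ∨ Cfsg.compLabel α (w j) < a.val} := by
  classical
  have hmap : (coordSub β b.val).map (Matrix.toLin' (permGL (F := F) w : Matrix (Fin n) (Fin n) F)) =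
      Submodule.span F ((Pi.basisFun F (Fin n)) '' (w '' {j | Cfsg.compLabel β j < b.val})) := by
    rw [coordSub, Submodule.map_span]
    congr 1
    rw [Set.image_image, Set.image_image]
    refine Set.image_congr fun j _ => ?_
    rw [Pi.basisFun_apply, Pi.basisFun_apply, Matrix.toLin'_apply, Matrix.mulVec_single_one]
    funext i
    simp [permGL_apply, Pi.single_apply]
  rw [relDim, hmap, coordSub, ← Submodule.span_union, ← Set.image_union]
  set S : Set (Fin n) := w '' {j | Cfsg.compLabel β j < b.val} ∪ {i | Cfsg.compLabel α i < a.val}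
  have hli : LinearIndependent F (fun i : S => Pi.basisFun F (Fin n) i) :=
    (Pi.basisFun F (Fin n)).linearIndependent.comp _ Subtype.val_injective
  rw [show (Pi.basisFun F (Fin n)) '' S = Set.range (fun i : S => Pi.basisFun F (Fin n) i) by
    rw [Set.image_eq_range], finrank_span_eq_card hli, ← Nat.card_eq_fintype_card]
  refine Nat.card_congr (w.symm.subtypeEquiv fun i => ?_)
  show i ∈ S ↔ _
  rw [Equiv.apply_symm_apply]
  simp only [S, Set.mem_union, Set.mem_image_equiv, Set.mem_setOf_eq]

theorem relDim_permGL_eq_iff (α β : Fin n → ℕ) (hα : ∑ i, α i = n) (hβ : ∑ i, β i = n)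
    (w w' : Equiv.Perm (Fin n)) :
    relDim (F := F) α β (permGL w) = relDim (F := F) α β (permGL w') ↔
      relMat α β hα hβ w = relMat α β hα hβ w' := by
  classical
  -- complements: positions with both labels large
  let U : Equiv.Perm (Fin n) → ℕ → ℕ → ℕ := fun v a b =>
    (Finset.univ.filter fun j => ¬ (Cfsg.compLabel β j < b ∨ Cfsg.compLabel α (v j) < a)).card
  have hU : ∀ v (a b : Fin (n + 1)), relDim (F := F) α β (permGL v) a b + U v a b = n := by
    intro v a b
    rw [relDim_permGL, Nat.card_eq_fintype_card, Fintype.card_subtype]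
    simp only [U]
    rw [Finset.card_filter_add_card_filter_not, Finset.card_univ, Fintype.card_fin]
  have hM : ∀ v (a b : Fin n), relMat α β hα hβ v a b + U v (a.val + 1) b.val + U v a.val (b.val + 1) =
      U v a.val b.val + U v (a.val + 1) (b.val + 1) := by
    intro v a b
    simp only [relMat, Nat.card_eq_fintype_card, Fintype.card_subtype, U, Finset.card_filter,
      ← Finset.sum_add_distrib]
    refine Finset.sum_congr rfl fun j _ => ?_
    simp only [Fin.ext_iff, lab, not_or, not_lt]
    split_ifs <;> omega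
  constructor
  · intro h
    have hUe : ∀ a b, a ≤ n → b ≤ n → U w a b = U w' a b := by
      intro a b ha hb
      have h1 := hU w ⟨a, by omega⟩ ⟨b, by omega⟩
      have h2 := hU w' ⟨a, by omega⟩ ⟨b, by omega⟩
      rw [h] at h1
      simp only at h1 h2
      omega
    funext a b
    have h1 := hM w a b
    have h2 := hM w' a b
    rw [hUe _ _ (by omega) (by omega), hUe _ _ (by omega) (by omega), hUe _ _ (by omega) (by omega),
      hUe _ _ (by omega) (by omega)] at h1
    omega
  · intro h
    obtain ⟨u, hu, v, hv, rfl⟩ := relMat_sep α β hα hβ w w' h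
    rw [permGL_mul, permGL_mul]
    exact (relDim_inv α β _ _ _ (permGL_mem_parabolic hu) (permGL_mem_parabolic hv)).symm

theorem card_orbits_flag [Finite F] (α β : Fin n → ℕ) (hα : ∑ i, α i = n) (hβ : ∑ i, β i = n) :
    Nat.card (Quotient (MulAction.orbitRel (GL (Fin n) F)
      ((GL (Fin n) F ⧸ Cfsg.parabolicGL n F α) × (GL (Fin n) F ⧸ Cfsg.parabolicGL n F β)))) =
      numMat α β := by
  classical
  have hdec : ∀ g : GL (Fin n) F, ∃ w, ∃ b ∈ Cfsg.parabolicGL n F α, ∃ b' ∈ Cfsg.parabolicGL n F β,
      g = b * permGL w * b' := fun g => by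
    obtain ⟨b, b', w, hb, hb', h⟩ := exists_bruhat g
    exact ⟨w, b, mem_parabolic_of_upper hb, b', mem_parabolic_of_upper hb', h⟩
  rw [card_orbits_pair _ _ (relDim (F := F) α β) (fun g h hh k hk => relDim_inv α β g h k hh hk) ?_,
    ← card_range_relMat α β hα hβ]
  · symm
    have hrange : ∀ d : Set.range (relDim (F := F) α β), ∃ w, relDim (F := F) α β (permGL w) = d.1 := by
      rintro ⟨_, g, rfl⟩
      obtain ⟨w, b, hb, b', hb', rfl⟩ := hdec g
      exact ⟨w, (relDim_inv α β _ _ _ hb hb').symm⟩
    choose ω hω using hrange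
    refine (Nat.card_congr (Equiv.ofBijective (fun d => ⟨relMat α β hα hβ (ω d), ω d, rfl⟩) ⟨?_, ?_⟩)).symm
    · intro d d' h
      have h' := (relDim_permGL_eq_iff (F := F) α β hα hβ _ _).2 (congrArg Subtype.val h)
      rw [hω, hω] at h'
      exact Subtype.ext h'
    · rintro ⟨_, w, rfl⟩
      refine ⟨⟨_, permGL w, rfl⟩, Subtype.ext ?_⟩
      exact (relDim_permGL_eq_iff α β hα hβ _ _).1 (hω _)
  · intro g g' h
    obtain ⟨w, b, hb, b', hb', rfl⟩ := hdec g
    obtain ⟨w', c, hc, c', hc', rfl⟩ := hdec g'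
    rw [relDim_inv α β _ _ _ hb hb', relDim_inv α β _ _ _ hc hc',
      relDim_permGL_eq_iff α β hα hβ] at h
    obtain ⟨u, hu, v, hv, rfl⟩ := relMat_sep α β hα hβ w w' h
    refine ⟨c * permGL u * b⁻¹, ?_, b'⁻¹ * permGL v * c', ?_, ?_⟩
    · exact mul_mem (mul_mem hc (permGL_mem_parabolic hu)) (inv_mem hb)
    · exact mul_mem (mul_mem (inv_mem hb') (permGL_mem_parabolic hv)) hc'
    · rw [permGL_mul, permGL_mul]
      group

end Cfsg.Agent.Lib.Flag
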