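import Mathlib
import Cfsg.Prelude.Def_LinearParabolics
import Cfsg.Agent.Lib.Characters.Perm
import Cfsg.Agent.Lib.Characters.Ortho
import Cfsg.Agent.Lib.Flag.GLOrbits

/-!
Inner products of the flag characters and of their alternating sums.
-/

set_option autoImplicit false

namespace Cfsg.Agent.Lib.Flag

open scoped MatrixGroups ComplexConjugate
open Cfsg.Agent.Lib.Characters

theorem conj_fixedPointCharacter {G : Type*} [Group G] (H : Subgroup G) (g : G) :
    conj (Cfsg.fixedPointCharacter H g) = Cfsg.fixedPointCharacter H g := map_natCast _ _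

theorem avg_fixed_mul {G : Type*} [Group G] [Fintype G] (H K : Subgroup G) :
    (Nat.card G : ℂ)⁻¹ * ∑ g, Cfsg.fixedPointCharacter H g * Cfsg.fixedPointCharacter K g =
      (Nat.card (Quotient (MulAction.orbitRel G ((G ⧸ H) × (G ⧸ K)))) : ℂ) := by
  rw [← classInner_permChar_one ((G ⧸ H) × (G ⧸ K))]
  unfold classInner
  simp only [map_one, mul_one]
  congr 1
  refine Finset.sum_congr rfl fun g _ => ?_
  simp only [Cfsg.fixedPointCharacter]
  rw [← Nat.cast_mul, ← Nat.card_prod]
  congr 1
  refine Nat.card_congr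
    { toFun := fun q => ⟨(q.1.1, q.2.1), Prod.ext q.1.2 q.2.2⟩
      invFun := fun q => (⟨q.1.1, congrArg Prod.fst q.2⟩, ⟨q.1.2, congrArg Prod.snd q.2⟩)
      left_inv := fun q => rfl
      right_inv := fun q => rfl }

variable {F : Type*} [Field F] [Fintype F] [DecidableEq F] {n : ℕ}

theorem classInner_flag (α β : Fin n → ℕ) (hα : ∑ i, α i = n) (hβ : ∑ i, β i = n) :
    classInner (Cfsg.fixedPointCharacter (Cfsg.parabolicGL n F α))
      (Cfsg.fixedPointCharacter (Cfsg.parabolicGL n F β)) = (numMat α β : ℂ) := by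
  unfold classInner
  simp only [conj_fixedPointCharacter]
  rw [avg_fixed_mul, card_orbits_flag α β hα hβ]

theorem sum_shift {ν : Fin n → ℕ} (hν : ∑ i, ν i = n) (κ : Equiv.Perm (Fin n))
    (h : ∀ i : Fin n, (κ i).val ≤ ν i + i.val) : ∑ i : Fin n, (ν i + i.val - (κ i).val) = n := by
  have h1 : ∑ i : Fin n, (ν i + i.val - (κ i).val) + ∑ i : Fin n, (κ i).val =
      ∑ i : Fin n, ν i + ∑ i : Fin n, i.val := by
    rw [← Finset.sum_add_distrib, ← Finset.sum_add_distrib]
    exact Finset.sum_congr rfl fun i _ => Nat.sub_add_cancel (h i)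
  rw [Equiv.sum_comp κ (fun i : Fin n => i.val), hν] at h1
  omega

theorem classInner_unipotent (ν ν' : Fin n → ℕ) (hν : Monotone ν) (hνs : ∑ i, ν i = n)
    (hν' : Monotone ν') (hνs' : ∑ i, ν' i = n) :
    classInner (Cfsg.unipotentCharacterGL n F ν) (Cfsg.unipotentCharacterGL n F ν') =
      if ν = ν' then 1 else 0 := by
  classical
  have hstrict : ∀ {μ : Fin n → ℕ}, Monotone μ → StrictMono fun i : Fin n => μ i + i.val :=
    fun hμ a b hab => add_lt_add_of_le_of_lt (hμ hab.le) hab
  have h := congrArg (fun z : ℤ => (z : ℂ)) (alt_numMat _ _ (hstrict hν) (hstrict hν'))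
  have hiff : (fun i : Fin n => ν i + i.val) = (fun i => ν' i + i.val) ↔ ν = ν' :=
    ⟨fun h => funext fun i => by have := congrFun h i; omega, fun h => by rw [h]⟩
  simp only [hiff, Int.cast_sum, Int.cast_ite, Int.cast_mul, Int.cast_natCast, Int.cast_one,
    Int.cast_zero] at h
  rw [← h]
  let π : (Fin n → ℕ) → GL (Fin n) F → ℂ := fun μ => Cfsg.fixedPointCharacter (Cfsg.parabolicGL n F μ)
  let c : (Fin n → ℕ) → Equiv.Perm (Fin n) → GL (Fin n) F → ℂ := fun μ κ =>
    if ∀ i : Fin n, (κ i).val ≤ μ i + i.val then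
      ((Equiv.Perm.sign κ : ℤ) : ℂ) • π (fun i => μ i + i.val - (κ i).val) else 0
  have hu : ∀ μ : Fin n → ℕ, Cfsg.unipotentCharacterGL n F μ = ∑ κ, c μ κ := by
    intro μ
    funext g
    rw [Finset.sum_apply, Cfsg.unipotentCharacterGL]
    refine Finset.sum_congr rfl fun κ _ => ?_
    simp only [c]
    split_ifs <;> rfl
  rw [hu, hu, classInner_sum_left]
  refine Finset.sum_congr rfl fun κ _ => ?_
  rw [classInner_sum_right]
  refine Finset.sum_congr rfl fun κ' _ => ?_
  simp only [c]
  by_cases h1 : ∀ i : Fin n, (κ i).val ≤ ν i + i.val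
  · by_cases h2 : ∀ i : Fin n, (κ' i).val ≤ ν' i + i.val
    · rw [if_pos h1, if_pos h2, if_pos ⟨h1, h2⟩, classInner_smul_left, classInner_smul_right,
        classInner_flag _ _ (sum_shift hνs κ h1) (sum_shift hνs' κ' h2)]
      simp only [map_intCast]
      ring
    · rw [if_neg h2, classInner_zero_right, if_neg (fun hh => h2 hh.2)]
  · rw [if_neg h1, classInner_zero_left, if_neg (fun hh => h1 hh.1)]

theorem isGeneralized_unipotent (ν : Fin n → ℕ) :
    Cfsg.IsGeneralizedCharacter (GL (Fin n) F) (Cfsg.unipotentCharacterGL n F ν) := by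
  classical
  have hu : Cfsg.unipotentCharacterGL n F ν = fun g => ∑ κ : Equiv.Perm (Fin n),
      (if ∀ i : Fin n, (κ i).val ≤ ν i + i.val then
        ((Equiv.Perm.sign κ : ℤ) : ℂ) • Cfsg.fixedPointCharacter (Cfsg.parabolicGL n F fun i => ν i + i.val - (κ i).val)
        else 0) g := by
    funext g
    rw [Cfsg.unipotentCharacterGL]
    refine Finset.sum_congr rfl fun κ _ => ?_
    split_ifs <;> rfl
  rw [hu, ← Finset.sum_fn]
  refine IsGeneralizedCharacter.sum _ fun κ _ => ?_
  split_ifs with h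
  · exact IsGeneralizedCharacter.intCast_smul
      (IsCharacter.isGeneralizedCharacter (isCharacter_permChar _)) _
  · exact IsCharacter.isGeneralizedCharacter isCharacter_zero

end Cfsg.Agent.Lib.Flag
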