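import Mathlib
import Cfsg.Prelude.Def_LinearParabolics
import Cfsg.Agent.Lib.Flag.Blocks

/-!
Orders of the standard parabolic subgroups and degrees of the alternating sums.
-/

set_option autoImplicit false

namespace Cfsg.Agent.Lib.Flag

open scoped MatrixGroups

/-- the q-integer -/
def qint (q r : ℕ) : ℕ := ∑ l ∈ Finset.range r, q ^ l

/-- the q-factorial -/
def qfac (q m : ℕ) : ℕ := ∏ j ∈ Finset.range m, qint q (j + 1)

/-- triangular numbers -/
def tri (m : ℕ) : ℕ := ∑ i ∈ Finset.range m, i

theorem two_tri_add (m : ℕ) : 2 * tri m + m = m * m := by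
  induction m with
  | zero => rfl
  | succ k ih =>
    rw [tri, Finset.sum_range_succ, ← tri]
    linarith

theorem qint_mul_add (x k : ℕ) : qint (x + 1) k * x + 1 = (x + 1) ^ k := geom_sum_mul_add x k

theorem prod_card_factor (x m : ℕ) :
    ∏ i : Fin m, ((x + 1) ^ m - (x + 1) ^ i.val) = (x + 1) ^ tri m * x ^ m * qfac (x + 1) m := by
  have h : ∀ i ∈ Finset.range m, (x + 1) ^ m - (x + 1) ^ i = (x + 1) ^ i * x * qint (x + 1) (m - i) := by
    intro i hi
    rw [Finset.mem_range] at hi
    have h1 : (x + 1) ^ m = (x + 1) ^ i * (x + 1) ^ (m - i) := by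
      rw [← pow_add, Nat.add_sub_cancel' hi.le]
    rw [h1, ← qint_mul_add x (m - i), mul_add, mul_one, Nat.add_sub_cancel]
    ring
  rw [Fin.prod_univ_eq_prod_range (fun i => (x + 1) ^ m - (x + 1) ^ i) m, Finset.prod_congr rfl h,
    Finset.prod_mul_distrib, Finset.prod_mul_distrib, Finset.prod_const, Finset.card_range,
    Finset.prod_pow_eq_pow_sum]
  congr 1
  rw [qfac, ← Finset.prod_range_reflect (fun j => qint (x + 1) (j + 1)) m]
  exact Finset.prod_congr rfl fun i hi => by rw [Finset.mem_range] at hi; congr 1; omega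

variable {F : Type*} [Field F] [Fintype F]

theorem card_GL_index {ι : Type*} [Fintype ι] [DecidableEq ι] :
    Nat.card (GL ι F) =
      Fintype.card F ^ tri (Fintype.card ι) * (Fintype.card F - 1) ^ Fintype.card ι *
        qfac (Fintype.card F) (Fintype.card ι) := by
  have e : GL ι F ≃* GL (Fin (Fintype.card ι)) F :=
    Units.mapEquiv (Matrix.reindexAlgEquiv F F (Fintype.equivFin ι)).toRingEquiv.toMulEquiv
  rw [Nat.card_congr e.toEquiv, Matrix.card_GL_field]
  obtain ⟨x, hx⟩ : ∃ x, Fintype.card F = x + 1 :=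
    ⟨Fintype.card F - 1, by have := Fintype.card_pos (α := F); omega⟩
  rw [hx, Nat.add_sub_cancel]
  exact prod_card_factor x _

variable {n : ℕ}

theorem card_parabolic (α : Fin n → ℕ) (hα : ∑ i, α i = n) :
    Nat.card (Cfsg.parabolicGL n F α) * qfac (Fintype.card F) n =
      Nat.card (GL (Fin n) F) * ∏ i, qfac (Fintype.card F) (α i) := by
  classical
  set l := lab α hα with hl
  let Up := {p : Fin n × Fin n // l p.1 < l p.2}
  let Fib : Fin n → Type := fun k => {i : Fin n // l i = k}
  have hfib : ∀ k, Fintype.card (Fib k) = α k := fun k => by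
    rw [← Nat.card_eq_fintype_card]
    exact card_lab_fiber α hα k
  have hbt : ∀ M : Matrix (Fin n) (Fin n) F, M.BlockTriangular (Cfsg.compLabel α) ↔ M.BlockTriangular l :=
    fun M => ⟨fun h i j hij => h hij, fun h i j hij => h hij⟩
  -- assembling a matrix from its parts
  let mk : (Up → F) → (∀ k, Matrix (Fib k) (Fib k) F) → Matrix (Fin n) (Fin n) F := fun u B =>
    Matrix.of fun i j => if h : l i < l j then u ⟨(i, j), h⟩ else
      if h' : l i = l j then B (l j) ⟨i, h'⟩ ⟨j, rfl⟩ else 0
  have hmkbt : ∀ u B, (mk u B).BlockTriangular l := by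
    intro u B i j hij
    simp only [mk, Matrix.of_apply]
    rw [dif_neg (not_lt.2 hij.le), dif_neg hij.ne']
  have hmkblock : ∀ u B k, (mk u B).toSquareBlock l k = B k := by
    intro u B k
    ext ⟨i, hi⟩ ⟨j, hj⟩
    subst hj
    show mk u B i j = _
    simp only [mk, Matrix.of_apply]
    rw [dif_neg (by rw [hi]; exact lt_irrefl _), dif_pos hi]
  let E : Cfsg.parabolicGL n F α ≃ (Up → F) × ∀ k, GL (Fib k) F :=
    { toFun := fun g => (fun p => (g.1 : Matrix (Fin n) (Fin n) F) p.1.1 p.1.2, fun k =>
        Matrix.GeneralLinearGroup.mkOfDetNeZero ((g.1 : Matrix (Fin n) (Fin n) F).toSquareBlock l k) (by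
          have h := ((hbt _).1 g.2).det_fintype
          have hne : (g.1 : Matrix (Fin n) (Fin n) F).det ≠ 0 := (Matrix.GeneralLinearGroup.det g.1).ne_zero
          rw [h] at hne
          exact Finset.prod_ne_zero_iff.1 hne k (Finset.mem_univ k)))
      invFun := fun uB => ⟨Matrix.GeneralLinearGroup.mkOfDetNeZero (mk uB.1 fun k => uB.2 k) (by
          rw [(hmkbt uB.1 fun k => (uB.2 k : Matrix (Fib k) (Fib k) F)).det_fintype]
          refine Finset.prod_ne_zero_iff.2 fun k _ => ?_
          refine ne_of_eq_of_ne ?_ (Matrix.GeneralLinearGroup.det (uB.2 k)).ne_zero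
          exact congrArg Matrix.det (hmkblock uB.1 (fun k => (uB.2 k : Matrix (Fib k) (Fib k) F)) k)), (hbt _).2 (hmkbt uB.1 fun k => (uB.2 k : Matrix (Fib k) (Fib k) F))⟩
      left_inv := fun g => by
        apply Subtype.ext
        apply Units.ext
        ext i j
        show mk (fun p => (g.1 : Matrix (Fin n) (Fin n) F) p.1.1 p.1.2)
          (fun k => (g.1 : Matrix (Fin n) (Fin n) F).toSquareBlock l k) i j = _
        simp only [mk, Matrix.of_apply]
        split_ifs with h h'
        · rfl
        · rfl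
        · exact ((hbt _).1 g.2 (lt_of_le_of_ne (not_lt.1 h) (Ne.symm h'))).symm
      right_inv := fun uB => by
        refine Prod.ext ?_ ?_
        · funext p
          show mk uB.1 (fun k => (uB.2 k : Matrix (Fib k) (Fib k) F)) p.1.1 p.1.2 = _
          simp only [mk, Matrix.of_apply]
          rw [dif_pos p.2]
        · funext k
          apply Units.ext
          exact hmkblock uB.1 (fun k => (uB.2 k : Matrix (Fib k) (Fib k) F)) k }
  rw [Nat.card_congr E, Nat.card_prod, Nat.card_pi, Nat.card_pi, card_GL_index, Fintype.card_fin]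
  simp only [card_GL_index, hfib]
  have hup : 2 * Fintype.card Up + ∑ k, α k * α k = n * n := by
    have hlow : Fintype.card {p : Fin n × Fin n // l p.2 < l p.1} = Fintype.card Up :=
      Fintype.card_congr ((Equiv.prodComm _ _).subtypeEquiv fun p => Iff.rfl)
    have heq : Fintype.card {p : Fin n × Fin n // l p.1 = l p.2} = ∑ k, α k * α k := by
      rw [← Finset.sum_congr rfl (fun k (_ : k ∈ Finset.univ) => show Fintype.card (Fib k × Fib k) = α k * α k by
        rw [Fintype.card_prod, hfib]), ← Fintype.card_sigma]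
      exact Fintype.card_congr
        { toFun := fun p => ⟨l p.1.1, ⟨p.1.1, rfl⟩, ⟨p.1.2, p.2.symm⟩⟩
          invFun := fun s => ⟨(s.2.1.1, s.2.2.1), by rw [s.2.1.2, s.2.2.2]⟩
          left_inv := fun p => rfl
          right_inv := by
            rintro ⟨k, ⟨i, hi⟩, ⟨j, hj⟩⟩
            subst hi
            rfl }
    have htot : Fintype.card Up + Fintype.card {p : Fin n × Fin n // l p.2 < l p.1} +
        Fintype.card {p : Fin n × Fin n // l p.1 = l p.2} = n * n := by
      simp only [Up, Fintype.card_subtype, Finset.card_filter, ← Finset.sum_add_distrib]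
      rw [Finset.sum_congr rfl (g := fun _ => 1) fun p _ => by
        rcases lt_trichotomy (l p.1) (l p.2) with h | h | h
        · simp [h, h.not_gt, h.ne]
        · simp [h]
        · simp [h, h.not_gt, h.ne']]
      simp
    omega
  have hexp : Fintype.card Up + ∑ k, tri (α k) = tri n := by
    have h1 : 2 * ∑ k, tri (α k) + ∑ k, α k = ∑ k, α k * α k := by
      rw [Finset.mul_sum, ← Finset.sum_add_distrib]
      exact Finset.sum_congr rfl fun k _ => two_tri_add _
    have h2 := two_tri_add n
    rw [hα] at h1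
    omega
  rw [Finset.prod_const, Finset.card_univ, Nat.card_eq_fintype_card, Finset.prod_mul_distrib,
    Finset.prod_mul_distrib, Finset.prod_pow_eq_pow_sum, Finset.prod_pow_eq_pow_sum, hα, ← hexp, pow_add]
  ring

theorem parabolic_index_mul (α : Fin n → ℕ) (hα : ∑ i, α i = n) :
    Nat.card (GL (Fin n) F ⧸ Cfsg.parabolicGL n F α) * ∏ i, qfac (Fintype.card F) (α i) =
      qfac (Fintype.card F) n := by
  have h := card_parabolic (F := F) α hα
  rw [Subgroup.card_eq_card_quotient_mul_card_subgroup (Cfsg.parabolicGL n F α),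
    mul_assoc, mul_comm (Nat.card (GL (Fin n) F ⧸ _))] at h
  refine Nat.eq_of_mul_eq_mul_left (Nat.card_pos (α := Cfsg.parabolicGL n F α)) ?_
  rw [h]
  ring

theorem qfac_pos {q : ℕ} (m : ℕ) : 0 < qfac q m :=
  Finset.prod_pos fun j _ => by
    rw [qint, Finset.sum_range_succ']
    simp

theorem qint_sub {q a s : ℕ} (h : s ≤ a) :
    (qint q a : ℂ) - (qint q s : ℂ) = (q : ℂ) ^ s * (qint q (a - s) : ℂ) := by
  obtain ⟨d, rfl⟩ := Nat.exists_eq_add_of_le h
  rw [Nat.add_sub_cancel_left, qint, Finset.sum_range_add, ← qint, Nat.cast_add, add_sub_cancel_left,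
    qint, Nat.cast_sum, Nat.cast_sum, Finset.mul_sum]
  exact Finset.sum_congr rfl fun i _ => by push_cast; rw [pow_add]

theorem qfac_sub_mul (q : ℕ) : ∀ k a : ℕ, k ≤ a →
    qfac q (a - k) * ∏ s ∈ Finset.range k, qint q (a - s) = qfac q a := by
  intro k
  induction k with
  | zero => simp
  | succ k ih =>
    intro a ha
    rw [← ih a (by omega), Finset.prod_range_succ, show a - k = (a - (k + 1)) + 1 by omega]
    rw [qfac, qfac, Finset.prod_range_succ]
    ring

theorem six_sum_tri : ∀ n : ℕ, 6 * ∑ j ∈ Finset.range n, tri j = n * (n - 1) * (n - 2) := by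
  intro n
  induction n with
  | zero => rfl
  | succ k ih =>
    rw [Finset.sum_range_succ, mul_add, ih]
    have h := two_tri_add k
    rcases k with _ | _ | k
    · rfl
    · rfl
    · simp only [Nat.add_sub_cancel, show k + 1 + 1 - 2 = k by omega,
        show k + 1 + 1 + 1 - 2 = k + 1 by omega]
      nlinarith [h]

theorem unipotent_degree {ν : Fin n → ℕ} (hsum : ∑ i, ν i = n) :
    Cfsg.unipotentCharacterGL n F ν 1 * (Fintype.card F : ℂ) ^ (n * (n - 1) * (n - 2) / 6) *
        ∏ i : Fin n, (qfac (Fintype.card F) (ν i + i.val) : ℂ) =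
      (qfac (Fintype.card F) n : ℂ) *
        ∏ i : Fin n, ∏ j ∈ Finset.Ioi i,
          ((qint (Fintype.card F) (ν j + j.val) : ℂ) - (qint (Fintype.card F) (ν i + i.val) : ℂ)) := by
  classical
  set q := Fintype.card F
  let a : Fin n → ℕ := fun i => ν i + i.val
  let M : Matrix (Fin n) (Fin n) ℂ := Matrix.of fun i j => ∏ s ∈ Finset.range j.val, (qint q (a i - s) : ℂ)
  have h1 : Cfsg.unipotentCharacterGL n F ν 1 * ∏ i : Fin n, (qfac q (a i) : ℂ) = (qfac q n : ℂ) * M.det := by
    rw [← Matrix.det_transpose, Matrix.det_apply', Finset.mul_sum, Cfsg.unipotentCharacterGL, Finset.sum_mul]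
    refine Finset.sum_congr rfl fun κ _ => ?_
    simp only [Matrix.transpose_apply, M, Matrix.of_apply]
    by_cases hκ : ∀ i : Fin n, (κ i).val ≤ ν i + i.val
    · rw [if_pos hκ]
      have hc : Cfsg.fixedPointCharacter (Cfsg.parabolicGL n F fun i => ν i + i.val - (κ i).val) 1 =
          (Nat.card (GL (Fin n) F ⧸ Cfsg.parabolicGL n F fun i => ν i + i.val - (κ i).val) : ℂ) := by
        unfold Cfsg.fixedPointCharacter
        congr 1
        exact Nat.card_congr (Equiv.subtypeUnivEquiv fun x => one_smul _ x)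
      have hs : ∑ i : Fin n, (ν i + i.val - (κ i).val) = n := by
        have h1 : ∑ i : Fin n, (ν i + i.val - (κ i).val) + ∑ i : Fin n, (κ i).val =
            ∑ i : Fin n, ν i + ∑ i : Fin n, i.val := by
          rw [← Finset.sum_add_distrib, ← Finset.sum_add_distrib]
          exact Finset.sum_congr rfl fun i _ => Nat.sub_add_cancel (hκ i)
        rw [Equiv.sum_comp κ (fun i : Fin n => i.val), hsum] at h1
        omega
      have h2 := parabolic_index_mul (F := F) (fun i => ν i + i.val - (κ i).val) hs
      have h3 : ∀ i : Fin n, (qfac q (a i) : ℂ) =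
          (qfac q (a i - (κ i).val) : ℂ) * ∏ s ∈ Finset.range (κ i).val, (qint q (a i - s) : ℂ) := fun i => by
        exact_mod_cast (qfac_sub_mul q (κ i).val (a i) (hκ i)).symm
      rw [hc, Finset.prod_congr rfl fun i _ => h3 i, Finset.prod_mul_distrib, ← h2]
      simp only [Nat.cast_mul, Nat.cast_prod, a]
      ring
    · rw [if_neg hκ, zero_mul]
      push Not at hκ
      obtain ⟨i, hi⟩ := hκ
      rw [Finset.prod_eq_zero (Finset.mem_univ i) (Finset.prod_eq_zero (Finset.mem_range.2 hi)
        (show ((qint q (a i - (ν i + i.val)) : ℕ) : ℂ) = 0 by simp [a, qint])), mul_zero, mul_zero]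
  have h2 : M.det * (q : ℂ) ^ (n * (n - 1) * (n - 2) / 6) =
      ∏ i : Fin n, ∏ j ∈ Finset.Ioi i, ((qint q (a j) : ℂ) - (qint q (a i) : ℂ)) := by
    let p : Fin n → Polynomial ℂ := fun j =>
      ∏ s ∈ Finset.range j.val, (Polynomial.X - Polynomial.C (qint q s : ℂ))
    have hp : ∀ j, (p j).Monic := fun j => Polynomial.monic_prod_of_monic _ _ fun s _ => Polynomial.monic_X_sub_C _
    have hd : ∀ j, (p j).natDegree = j.val := fun j => by
      simp only [p]
      rw [Polynomial.natDegree_prod_of_monic _ _ fun s _ => Polynomial.monic_X_sub_C _]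
      simp only [Polynomial.natDegree_X_sub_C]
      simp
    rw [← Matrix.det_vandermonde (fun i : Fin n => (qint q (a i) : ℂ)),
      Matrix.det_eval_matrixOfPolynomials_eq_det_vandermonde _ p hd hp]
    have hcol : (Matrix.of fun i j => (Polynomial.eval ((qint q (a i) : ℂ)) (p j))) =
        Matrix.of (fun i j => ((q : ℂ) ^ tri j.val) * M i j) := by
      ext i j
      simp only [Matrix.of_apply, p, M, Polynomial.eval_prod, Polynomial.eval_sub, Polynomial.eval_X,
        Polynomial.eval_C]
      by_cases hj : j.val ≤ a i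
      · rw [tri, ← Finset.prod_pow_eq_pow_sum, ← Finset.prod_mul_distrib]
        exact Finset.prod_congr rfl fun s hs => qint_sub (by rw [Finset.mem_range] at hs; omega)
      · rw [Finset.prod_eq_zero (Finset.mem_range.2 (not_le.1 hj)) (sub_self _),
          Finset.prod_eq_zero (i := a i) (Finset.mem_range.2 (not_le.1 hj)) (by simp [qint]), mul_zero]
    rw [hcol, Matrix.det_mul_row, Finset.prod_pow_eq_pow_sum, mul_comm]
    congr 2
    rw [Fin.sum_univ_eq_sum_range (fun j => tri j) n]
    have := six_sum_tri n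
    omega
  rw [← h2, mul_right_comm, h1]
  ring

end Cfsg.Agent.Lib.Flag
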