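import Mathlib

/-!
The Moebius function of the lattice of submodules of a finite semisimple module over `F[X]`, computed by
Weisner's theorem, in the form of alternating sums over chains.
-/

set_option autoImplicit false

namespace Cfsg.Agent.Lib.Flag.SteinbergValue

open Polynomial

section chains

variable {L : Type*} [Lattice L] [BoundedOrder L] [Fintype L]

open scoped Classical in
/-- chains strictly between bottom and `U` -/
noncomputable def chainsBelow (U : L) : Finset (Finset L) :=
  Finset.univ.filter fun s => (∀ a ∈ s, ⊥ < a ∧ a < U) ∧ IsChain (· ≤ ·) (s : Set L)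

theorem mem_chainsBelow {U : L} {s : Finset L} :
    s ∈ chainsBelow U ↔ (∀ a ∈ s, ⊥ < a ∧ a < U) ∧ IsChain (· ≤ ·) (s : Set L) := by
  classical
  simp [chainsBelow]

open scoped Classical in
/-- the Moebius value from bottom to `U`, as an alternating count of chains -/
noncomputable def mob (U : L) : ℤ :=
  if U = ⊥ then 1 else ∑ s ∈ chainsBelow U, (-1 : ℤ) ^ (s.card + 1)

theorem mob_bot : mob (⊥ : L) = 1 := by
  simp [mob]

theorem mob_of_ne {U : L} (h : U ≠ ⊥) : mob U = ∑ s ∈ chainsBelow U, (-1 : ℤ) ^ (s.card + 1) := by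
  simp [mob, h]

open scoped Classical in
theorem sum_mob_le {U : L} (hU : U ≠ ⊥) : ∑ W ∈ Finset.univ.filter (fun W => W ≤ U), mob W = 0 := by
  have hsplit : Finset.univ.filter (fun W => W ≤ U) =
      insert ⊥ (insert U (Finset.univ.filter (fun W => ⊥ < W ∧ W < U))) := by
    ext W
    simp only [Finset.mem_insert, Finset.mem_filter, Finset.mem_univ, true_and]
    constructor
    · intro h
      rcases eq_or_ne W ⊥ with h0 | h0
      · exact Or.inl h0
      rcases eq_or_ne W U with h1 | h1
      · exact Or.inr (Or.inl h1)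
      exact Or.inr (Or.inr ⟨bot_lt_iff_ne_bot.2 h0, lt_of_le_of_ne h h1⟩)
    · rintro (h | h | ⟨-, h⟩)
      · exact h ▸ bot_le
      · exact h.le
      · exact h.le
  rw [hsplit, Finset.sum_insert, Finset.sum_insert, mob_bot]
  rotate_left
  · simp
  · simp [Ne.symm hU]
  have hrec : mob U = -1 + ∑ W ∈ Finset.univ.filter (fun W => ⊥ < W ∧ W < U), -mob W := by
    rw [mob_of_ne hU, ← Finset.sum_filter_add_sum_filter_not (chainsBelow U) (fun s => s = ∅)]
    congr 1
    · have : (chainsBelow U).filter (fun s => s = ∅) = {∅} := by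
        ext s
        simp only [Finset.mem_filter, Finset.mem_singleton, and_iff_right_iff_imp]
        rintro rfl
        simp [mem_chainsBelow]
      rw [this]
      simp
    · have e : ∀ W ∈ Finset.univ.filter (fun W => ⊥ < W ∧ W < U), -mob W =
          ∑ s ∈ chainsBelow W, -((-1 : ℤ) ^ (s.card + 1)) := by
        intro W hW
        simp only [Finset.mem_filter, Finset.mem_univ, true_and] at hW
        rw [mob_of_ne hW.1.ne', Finset.sum_neg_distrib]
      rw [Finset.sum_congr rfl e, Finset.sum_sigma']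
      symm
      refine Finset.sum_bij (fun x _ => insert x.1 x.2) ?_ ?_ ?_ ?_
      · rintro ⟨W, s⟩ hx
        simp only [Finset.mem_sigma, Finset.mem_filter, Finset.mem_univ, true_and, mem_chainsBelow] at hx
        simp only [Finset.mem_filter, mem_chainsBelow, Finset.mem_insert, forall_eq_or_imp, Finset.coe_insert]
        refine ⟨⟨⟨hx.1, fun a ha => ⟨(hx.2.1 a ha).1, (hx.2.1 a ha).2.trans hx.1.2⟩⟩, ?_⟩, Finset.insert_ne_empty _ _⟩
        exact hx.2.2.insert fun a ha _ => Or.inr (hx.2.1 a ha).2.le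
      · rintro ⟨W, s⟩ hx ⟨W', s'⟩ hx' h
        simp only [Finset.mem_sigma, mem_chainsBelow] at hx hx'
        simp only at h
        have hWW : W = W' := by
          have a1 : W ∈ insert W' s' := h ▸ Finset.mem_insert_self W s
          have a2 : W' ∈ insert W s := h.symm ▸ Finset.mem_insert_self W' s'
          rcases Finset.mem_insert.1 a1 with a1 | a1
          · exact a1
          rcases Finset.mem_insert.1 a2 with a2 | a2
          · exact a2.symm
          exact absurd ((hx'.2.1 W a1).2.trans (hx.2.1 W' a2).2) (lt_irrefl _)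
        subst hWW
        have n1 : W ∉ s := fun hh => lt_irrefl _ (hx.2.1 W hh).2
        have n2 : W ∉ s' := fun hh => lt_irrefl _ (hx'.2.1 W hh).2
        have : s = s' := by rw [← Finset.erase_insert n1, h, Finset.erase_insert n2]
        subst this
        rfl
      · intro t ht
        simp only [Finset.mem_filter, mem_chainsBelow] at ht
        obtain ⟨⟨ht1, ht2⟩, ht3⟩ := ht
        obtain ⟨W, hW⟩ := t.exists_maximal (Finset.nonempty_iff_ne_empty.2 ht3)
        have htop : ∀ a ∈ t, a ≤ W := fun a ha => by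
          rcases eq_or_ne a W with h | h
          · exact h.le
          rcases ht2 ha hW.prop h with h' | h'
          · exact h'
          · exact hW.le_of_ge ha h'
        refine ⟨⟨W, t.erase W⟩, ?_, Finset.insert_erase hW.prop⟩
        simp only [Finset.mem_sigma, Finset.mem_filter, Finset.mem_univ, true_and, mem_chainsBelow,
          Finset.mem_erase]
        refine ⟨ht1 W hW.prop, fun a ha => ⟨(ht1 a ha.2).1, lt_of_le_of_ne (htop a ha.2) ha.1⟩, ?_⟩
        exact ht2.mono (by intro a ha; exact (Finset.mem_erase.1 (Finset.mem_coe.1 ha)).2)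
      · rintro ⟨W, s⟩ hx
        simp only [Finset.mem_sigma, mem_chainsBelow] at hx
        rw [Finset.card_insert_of_notMem fun hh => lt_irrefl _ (hx.2.1 W hh).2, pow_succ _ (s.card + 1)]
        ring
  rw [hrec, Finset.sum_neg_distrib]
  ring

open scoped Classical in
theorem weisner {A : L} (hA : IsAtom A) : ∀ U : L, A ≤ U →
    ∑ W ∈ Finset.univ.filter (fun W => W ⊔ A = U), mob W = 0 := by
  intro U
  induction U using WellFoundedLT.induction with
  | _ U ih =>
  intro hAU
  have h := sum_mob_le (U := U) (fun h => hA.1 (le_bot_iff.1 (h ▸ hAU)))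
  rw [← Finset.sum_fiberwise_of_maps_to (t := Finset.univ.filter (fun Y => A ≤ Y ∧ Y ≤ U))
    (g := fun W => W ⊔ A) (fun W hW => by
      simp only [Finset.mem_filter, Finset.mem_univ, true_and] at hW ⊢
      exact ⟨le_sup_right, sup_le hW hAU⟩)] at h
  rw [Finset.sum_eq_single_of_mem U (by simp [hAU])] at h
  · rw [Finset.filter_filter] at h
    convert h using 2
    ext W
    simp only [Finset.mem_filter, Finset.mem_univ, true_and]
    exact ⟨fun h' => ⟨h' ▸ le_sup_left, h'⟩, fun h' => h'.2⟩
  · intro Y hY hYU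
    simp only [Finset.mem_filter, Finset.mem_univ, true_and] at hY
    have := ih Y (lt_of_le_of_ne hY.2 hYU) hY.1
    rw [Finset.filter_filter]
    convert this using 2
    ext W
    simp only [Finset.mem_filter, Finset.mem_univ, true_and]
    exact ⟨fun h' => h'.2, fun h' => ⟨(h' ▸ le_sup_left : W ≤ Y).trans hY.2, h'⟩⟩

open scoped Classical in
theorem mob_eq_neg_sum {A U : L} (hA : IsAtom A) (hAU : A ≤ U) :
    mob U = -∑ W ∈ Finset.univ.filter (fun W => W ⊔ A = U ∧ W ⊓ A = ⊥), mob W := by
  have h := weisner hA U hAU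
  have e : Finset.univ.filter (fun W => W ⊔ A = U) =
      insert U (Finset.univ.filter (fun W => W ⊔ A = U ∧ W ⊓ A = ⊥)) := by
    ext W
    simp only [Finset.mem_insert, Finset.mem_filter, Finset.mem_univ, true_and]
    constructor
    · intro hW
      rcases hA.le_iff.1 (inf_le_right : W ⊓ A ≤ A) with h0 | h0
      · exact Or.inr ⟨hW, h0⟩
      · exact Or.inl (by rw [← hW, sup_eq_left.2 (inf_eq_right.1 h0)])
    · rintro (rfl | ⟨h1, -⟩)
      · exact sup_eq_left.2 hAU
      · exact h1
  rw [e, Finset.sum_insert] at h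
  · linarith
  · simp only [Finset.mem_filter, Finset.mem_univ, true_and, not_and]
    exact fun _ h0 => hA.1 (by rw [← h0, inf_eq_right.2 hAU])

end chains

section modules

variable {F : Type*} [Field F]

/-- multiplication by `X` -/
noncomputable def actX (N : Type*) [AddCommGroup N] [Module F N] [Module F[X] N] [IsScalarTower F F[X] N] :
    Module.End F N :=
  Algebra.lsmul F F N (X : F[X])

/-- the characteristic polynomial of multiplication by `X` -/
noncomputable def pol (N : Type*) [AddCommGroup N] [Module F N] [Module F[X] N] [IsScalarTower F F[X] N]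
    [Module.Finite F N] : F[X] :=
  (actX (F := F) N).charpoly

variable {N N' : Type*} [AddCommGroup N] [Module F N] [Module F[X] N] [IsScalarTower F F[X] N]
  [Module.Finite F N] [AddCommGroup N'] [Module F N'] [Module F[X] N'] [IsScalarTower F F[X] N']
  [Module.Finite F N']

theorem pol_congr (e : N ≃ₗ[F[X]] N') : pol (F := F) N = pol (F := F) N' := by
  rw [pol, pol, ← (e.restrictScalars F).charpoly_conj (actX N)]
  congr 1
  apply LinearMap.ext
  intro y
  show e ((X : F[X]) • e.symm y) = (X : F[X]) • y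
  rw [map_smul, LinearEquiv.apply_symm_apply]

theorem pol_prod : pol (F := F) (N × N') = pol (F := F) N * pol (F := F) N' := by
  rw [pol, pol, pol, ← LinearMap.charpoly_prodMap]
  congr 1

theorem pol_monic : (pol (F := F) N).Monic := LinearMap.charpoly_monic _

theorem pol_of_subsingleton [Subsingleton N] : pol (F := F) N = 1 := by
  apply eq_one_of_monic_natDegree_zero pol_monic
  rw [pol, LinearMap.charpoly_natDegree]
  exact Module.finrank_zero_of_subsingleton

theorem pol_quot {f : F[X]} (hf : f.Monic) [Module.Finite F (F[X] ⧸ Ideal.span {f})] :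
    pol (F := F) (F[X] ⧸ Ideal.span {f}) = f := by
  have hdeg : (pol (F := F) (F[X] ⧸ Ideal.span {f})).natDegree = f.natDegree := by
    rw [pol, LinearMap.charpoly_natDegree]
    have h := (AdjoinRoot.powerBasis hf.ne_zero).finrank
    rw [AdjoinRoot.powerBasis_dim] at h
    exact h
  have hdvd : f ∣ pol (F := F) (F[X] ⧸ Ideal.span {f}) := by
    have h := LinearMap.aeval_self_charpoly (actX (F := F) (F[X] ⧸ Ideal.span {f}))
    rw [show (actX (F := F) (F[X] ⧸ Ideal.span {f})) =
        Algebra.lsmul F F (F[X] ⧸ Ideal.span {f}) (X : F[X]) from rfl,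
      aeval_algHom_apply, aeval_X_left_apply] at h
    have h1 := LinearMap.congr_fun h (Ideal.Quotient.mk _ 1)
    rw [← Ideal.mem_span_singleton, ← Ideal.Quotient.eq_zero_iff_mem]
    rw [Algebra.lsmul_coe] at h1
    rw [LinearMap.zero_apply] at h1
    rw [← mul_one (pol (F := F) (F[X] ⧸ Ideal.span {f})), ← smul_eq_mul]
    exact h1
  exact (eq_of_monic_of_dvd_of_natDegree_le hf pol_monic hdvd hdeg.le)

end modules

section formula

variable {F : Type*} [Field F] [Fintype F] [DecidableEq F]

/-- triangular numbers -/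
def tri (m : ℕ) : ℕ := m * (m - 1) / 2

theorem tri_succ (m : ℕ) : tri (m + 1) = tri m + m := by
  unfold tri
  rcases m with _ | k
  · rfl
  have h : (k + 1 + 1) * (k + 1) = (k + 1) * k + 2 * (k + 1) := by ring
  rw [Nat.add_sub_cancel, Nat.add_sub_cancel, h, Nat.add_mul_div_left _ _ (by norm_num)]

/-- the expected value -/
noncomputable def val (s : Multiset F[X]) : ℤ :=
  ∏ f ∈ s.toFinset, (-1 : ℤ) ^ s.count f * (Fintype.card F : ℤ) ^ (f.natDegree * tri (s.count f))

theorem val_cons (f : F[X]) (s : Multiset F[X]) :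
    val (f ::ₘ s) = -((Fintype.card F : ℤ) ^ (f.natDegree * s.count f)) * val s := by
  have h0 : val s = ∏ g ∈ insert f s.toFinset,
      (-1 : ℤ) ^ s.count g * (Fintype.card F : ℤ) ^ (g.natDegree * tri (s.count g)) := by
    rw [val]
    refine Finset.prod_subset (Finset.subset_insert _ _) fun g _ hg => ?_
    rw [Multiset.mem_toFinset, ← Multiset.count_eq_zero] at hg
    simp [hg, tri]
  rw [h0, val, Multiset.toFinset_cons,
    ← Finset.mul_prod_erase _ _ (Finset.mem_insert_self f s.toFinset),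
    ← Finset.mul_prod_erase (insert f s.toFinset) (fun g => (-1 : ℤ) ^ s.count g *
      (Fintype.card F : ℤ) ^ (g.natDegree * tri (s.count g))) (Finset.mem_insert_self f s.toFinset)]
  have hrest : ∀ g ∈ (insert f s.toFinset).erase f,
      (-1 : ℤ) ^ (f ::ₘ s).count g * (Fintype.card F : ℤ) ^ (g.natDegree * tri ((f ::ₘ s).count g)) =
      (-1 : ℤ) ^ s.count g * (Fintype.card F : ℤ) ^ (g.natDegree * tri (s.count g)) := fun g hg => by
    rw [Multiset.count_cons_of_ne (Finset.ne_of_mem_erase hg)]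
  rw [Finset.prod_congr rfl hrest, Multiset.count_cons_self, tri_succ, mul_add, pow_add, pow_succ]
  ring

theorem nf_mul_irreducible {f P : F[X]} (hf : Irreducible f) (hfm : f.Monic) (hP : P ≠ 0) :
    UniqueFactorizationMonoid.normalizedFactors (f * P) =
      f ::ₘ UniqueFactorizationMonoid.normalizedFactors P := by
  rw [UniqueFactorizationMonoid.normalizedFactors_mul hf.ne_zero hP,
    UniqueFactorizationMonoid.normalizedFactors_irreducible hf, hfm.normalize_eq_self, Multiset.singleton_add]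

variable {M : Type*} [AddCommGroup M] [Module F M] [Module F[X] M] [IsScalarTower F F[X] M] [Finite M]

theorem exists_simple_quot {A : Submodule F[X] M} (hA : IsAtom A) :
    ∃ f : F[X], Irreducible f ∧ f.Monic ∧ Nonempty (↥A ≃ₗ[F[X]] F[X] ⧸ Ideal.span {f}) := by
  have hs : IsSimpleModule F[X] ↥A := isSimpleModule_iff_isAtom.2 hA
  obtain ⟨I, hI, ⟨e⟩⟩ := isSimpleModule_iff_quot_maximal.1 hs
  obtain ⟨g, hg⟩ : ∃ g, I = Ideal.span {g} := ⟨_, (Ideal.span_singleton_generator I).symm⟩
  have hI0 : I ≠ ⊥ := Ring.ne_bot_of_isMaximal_of_not_isField hI (Polynomial.not_isField F)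
  have hg0 : g ≠ 0 := fun h => hI0 (by rw [hg, h, Ideal.span_singleton_eq_bot])
  have hirr : Irreducible g := ((Ideal.span_singleton_prime hg0).1 (hg ▸ hI.isPrime)).irreducible
  refine ⟨normalize g, (associated_normalize g).irreducible hirr, monic_normalize hg0,
    ⟨e.trans (Submodule.quotEquivOfEq _ _ ?_)⟩⟩
  rw [hg, Ideal.span_singleton_eq_span_singleton]
  exact associated_normalize g

/-- the product decomposition of an inner direct sum -/
noncomputable def supEquiv {B W U : Submodule F[X] M} (h : B ⊔ W = U) (hd : B ⊓ W = ⊥) :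
    (↥B × ↥W) ≃ₗ[F[X]] ↥U :=
  LinearEquiv.ofBijective
    ((Submodule.inclusion (h ▸ le_sup_left)).coprod (Submodule.inclusion (h ▸ le_sup_right)))
    ⟨by
      rw [← LinearMap.ker_eq_bot, LinearMap.ker_eq_bot']
      rintro ⟨b, w⟩ hbw
      have h1 : (b : M) + (w : M) = 0 := congrArg Subtype.val hbw
      have hb : (b : M) ∈ B ⊓ W := ⟨b.2, by
        rw [eq_neg_of_add_eq_zero_left h1]; exact W.neg_mem w.2⟩
      rw [hd, Submodule.mem_bot] at hb
      rw [hb, zero_add] at h1
      exact Prod.ext (Subtype.ext hb) (Subtype.ext h1),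
    by
      rintro ⟨u, hu⟩
      rw [← h, Submodule.mem_sup] at hu
      obtain ⟨b, hb, w, hw, e⟩ := hu
      exact ⟨(⟨b, hb⟩, ⟨w, hw⟩), Subtype.ext e⟩⟩

theorem pol_sup {B W U : Submodule F[X] M} (h : B ⊔ W = U) (hd : B ⊓ W = ⊥) :
    pol (F := F) ↥U = pol (F := F) ↥B * pol (F := F) ↥W := by
  rw [← pol_congr (supEquiv h hd), pol_prod]

theorem exists_compl [IsSemisimpleModule F[X] M] {A U : Submodule F[X] M} (h : A ≤ U) :
    ∃ W, A ⊔ W = U ∧ A ⊓ W = ⊥ := by
  obtain ⟨C, hC⟩ := exists_isCompl A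
  refine ⟨C ⊓ U, ?_, ?_⟩
  · rw [← sup_inf_assoc_of_le C h, hC.sup_eq_top, top_inf_eq]
  · rw [← inf_assoc, hC.inf_eq_bot, bot_inf_eq]

theorem card_hom_simple {f g : F[X]} (hf : Irreducible f) (hfm : f.Monic) (hg : Irreducible g) (hgm : g.Monic)
    [Decidable (g = f)] :
    Nat.card ((F[X] ⧸ Ideal.span {g}) →ₗ[F[X]] (F[X] ⧸ Ideal.span {f})) =
      if g = f then Fintype.card F ^ f.natDegree else 1 := by
  split_ifs with h
  · subst h
    have hkill : ∀ a : F[X] ⧸ Ideal.span {g}, g • a = 0 := fun a => by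
      obtain ⟨r, rfl⟩ := Ideal.Quotient.mk_surjective a
      show Ideal.Quotient.mk (Ideal.span {g}) (g * r) = 0
      rw [Ideal.Quotient.eq_zero_iff_mem, Ideal.mem_span_singleton]
      exact dvd_mul_right g r
    rw [Nat.card_eq_of_bijective (fun φ : (F[X] ⧸ Ideal.span {g}) →ₗ[F[X]] (F[X] ⧸ Ideal.span {g}) =>
      φ (Submodule.Quotient.mk 1)) ⟨fun φ ψ hh => ?_, fun a => ?_⟩]
    · have hfin : Module.Finite F (AdjoinRoot g) := (AdjoinRoot.powerBasis hgm.ne_zero).finite
      have h1 := Module.natCard_eq_pow_finrank (K := F) (V := AdjoinRoot g)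
      rw [(AdjoinRoot.powerBasis hgm.ne_zero).finrank, AdjoinRoot.powerBasis_dim,
        Nat.card_eq_fintype_card (α := F)] at h1
      exact h1
    · refine LinearMap.ext fun a => ?_
      obtain ⟨r, rfl⟩ := Submodule.Quotient.mk_surjective _ a
      rw [show (Submodule.Quotient.mk r : F[X] ⧸ Ideal.span {g}) = r • Submodule.Quotient.mk 1 by
        rw [← Submodule.Quotient.mk_smul, smul_eq_mul, mul_one], map_smul, map_smul]
      exact congrArg (r • ·) hh
    · refine ⟨Submodule.liftQ _ (LinearMap.toSpanSingleton F[X] _ a) ?_, ?_⟩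
      · refine Submodule.span_le.2 (Set.singleton_subset_iff.2 ?_)
        exact hkill a
      · show LinearMap.toSpanSingleton F[X] _ a 1 = a
        simp
  · have : Subsingleton ((F[X] ⧸ Ideal.span {g}) →ₗ[F[X]] (F[X] ⧸ Ideal.span {f})) := by
      refine ⟨fun φ ψ => LinearMap.ext fun a => ?_⟩
      obtain ⟨s, t, hst⟩ : IsCoprime g f := (hg.coprime_iff_not_dvd).2 fun hd =>
        h (eq_of_monic_of_associated hgm hfm (hg.associated_of_dvd hf hd))
      have hg0 : g • a = 0 := by
        obtain ⟨r, rfl⟩ := Ideal.Quotient.mk_surjective a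
        show Ideal.Quotient.mk (Ideal.span {g}) (g * r) = 0
        rw [Ideal.Quotient.eq_zero_iff_mem, Ideal.mem_span_singleton]
        exact dvd_mul_right g r
      have hf0 : ∀ b : F[X] ⧸ Ideal.span {f}, f • b = 0 := fun b => by
        obtain ⟨r, rfl⟩ := Ideal.Quotient.mk_surjective b
        show Ideal.Quotient.mk (Ideal.span {f}) (f * r) = 0
        rw [Ideal.Quotient.eq_zero_iff_mem, Ideal.mem_span_singleton]
        exact dvd_mul_right f r
      calc φ a = (s * g + t * f) • φ a := by rw [hst, one_smul]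
        _ = 0 := by rw [add_smul, mul_smul, mul_smul, hf0, ← map_smul, hg0, map_zero, smul_zero, smul_zero, add_zero]
        _ = (s * g + t * f) • ψ a := by
            rw [add_smul, mul_smul, mul_smul, hf0, ← map_smul, hg0, map_zero, smul_zero, smul_zero, add_zero]
        _ = ψ a := by rw [hst, one_smul]
    exact Nat.card_eq_one_iff_unique.2 ⟨this, ⟨0⟩⟩

theorem card_hom [IsSemisimpleModule F[X] M] {A : Submodule F[X] M} {f : F[X]} (hf : Irreducible f)
    (hfm : f.Monic) (e : ↥A ≃ₗ[F[X]] F[X] ⧸ Ideal.span {f}) (U : Submodule F[X] M) :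
    Nat.card (↥U →ₗ[F[X]] ↥A) = Fintype.card F ^
      (f.natDegree * (UniqueFactorizationMonoid.normalizedFactors (pol (F := F) ↥U)).count f) := by
  induction U using WellFoundedLT.induction with
  | _ U ih =>
  rcases eq_bot_or_exists_atom_le U with rfl | ⟨B, hB, hBU⟩
  · rw [pol_of_subsingleton, UniqueFactorizationMonoid.normalizedFactors_one]
    simp
  obtain ⟨W, h1, h2⟩ := exists_compl hBU
  obtain ⟨g, hg, hgm, ⟨eB⟩⟩ := exists_simple_quot hB
  have hWU : W < U := by
    refine lt_of_le_of_ne (h1 ▸ le_sup_right) fun h => hB.1 ?_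
    rw [← h2, h, inf_eq_left.2 hBU]
  have hfinB : Module.Finite F (F[X] ⧸ Ideal.span {g}) := (AdjoinRoot.powerBasis hgm.ne_zero).finite
  have hsplit : (↥U →ₗ[F[X]] ↥A) ≃ (↥B →ₗ[F[X]] ↥A) × (↥W →ₗ[F[X]] ↥A) :=
    ((supEquiv h1 h2).congrLeft ↥A F[X]).symm.toEquiv.trans (LinearMap.coprodEquiv F[X]).symm.toEquiv
  rw [Nat.card_congr hsplit, Nat.card_prod, ih W hWU,
    Nat.card_congr ((eB.arrowCongr e).toEquiv), card_hom_simple hf hfm hg hgm, pol_sup h1 h2,
    pol_congr eB, pol_quot hgm, nf_mul_irreducible hg hgm pol_monic.ne_zero]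
  by_cases h : g = f
  · subst h
    rw [if_pos rfl, Multiset.count_cons_self, ← pow_add]
    ring_nf
  · rw [if_neg h, Multiset.count_cons_of_ne (Ne.symm h), one_mul]

theorem card_compl {A U W₀ : Submodule F[X] M} (h1 : A ⊔ W₀ = U) (h2 : A ⊓ W₀ = ⊥) :
    Nat.card {W : Submodule F[X] M // W ⊔ A = U ∧ W ⊓ A = ⊥} = Nat.card (↥W₀ →ₗ[F[X]] ↥A) := by
  symm
  let G : (↥W₀ →ₗ[F[X]] ↥A) → Submodule F[X] M := fun φ =>
    LinearMap.range (W₀.subtype + A.subtype ∘ₗ φ)
  have hmem : ∀ φ x, x ∈ G φ ↔ ∃ w : ↥W₀, (w : M) + (φ w : M) = x := fun φ x => by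
    simp [G]
  have hdis : ∀ x, x ∈ A → x ∈ W₀ → x = 0 := fun x ha hw => by
    have : x ∈ A ⊓ W₀ := ⟨ha, hw⟩
    rwa [h2, Submodule.mem_bot] at this
  refine Nat.card_eq_of_bijective (fun φ => ⟨G φ, ?_, ?_⟩) ⟨?_, ?_⟩
  · refine le_antisymm (sup_le ?_ (h1 ▸ le_sup_left)) ?_
    · intro x hx
      obtain ⟨w, rfl⟩ := (hmem φ x).1 hx
      rw [← h1]
      exact add_mem (Submodule.mem_sup_right w.2) (Submodule.mem_sup_left (φ w).2)
    · rw [← h1]
      refine sup_le le_sup_right fun x hx => ?_
      have e : x = ((x + (φ ⟨x, hx⟩ : M)) : M) + -(φ ⟨x, hx⟩ : M) := by abel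
      rw [e]
      exact add_mem (Submodule.mem_sup_left ((hmem φ _).2 ⟨⟨x, hx⟩, rfl⟩))
        (Submodule.mem_sup_right (A.neg_mem (φ ⟨x, hx⟩).2))
  · rw [Submodule.eq_bot_iff]
    rintro x ⟨hx1, hx2⟩
    obtain ⟨w, rfl⟩ := (hmem φ x).1 hx1
    have hw : (w : M) = 0 := hdis _ (by
      simpa using A.sub_mem hx2 (φ w).2) w.2
    have : w = 0 := Subtype.ext hw
    simp [this]
  · intro φ ψ h
    have h' : G φ = G ψ := congrArg Subtype.val h
    refine LinearMap.ext fun w => Subtype.ext ?_
    obtain ⟨w', hw'⟩ := (hmem ψ _).1 (h' ▸ (hmem φ _).2 ⟨w, rfl⟩)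
    have : (w : M) - (w' : M) = 0 := hdis _ (by
      rw [show (w : M) - (w' : M) = (ψ w' : M) - (φ w : M) by
        rw [sub_eq_sub_iff_add_eq_add, ← hw', add_comm]]
      exact A.sub_mem (ψ w').2 (φ w).2) (W₀.sub_mem w.2 w'.2)
    have hww : w' = w := Subtype.ext (sub_eq_zero.1 this).symm
    subst hww
    exact (add_left_cancel hw').symm
  · rintro ⟨W, hW1, hW2⟩
    have hWd : ∀ x, x ∈ W → x ∈ A → x = 0 := fun x hw ha => by
      have : x ∈ W ⊓ A := ⟨hw, ha⟩
      rwa [hW2, Submodule.mem_bot] at this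
    have hex : ∀ w : ↥W₀, ∃ a : ↥A, (w : M) + (a : M) ∈ W := fun w => by
      have : (w : M) ∈ W ⊔ A := by rw [hW1, ← h1]; exact Submodule.mem_sup_right w.2
      obtain ⟨y, hy, a, ha, e⟩ := Submodule.mem_sup.1 this
      refine ⟨-⟨a, ha⟩, ?_⟩
      rw [← e]
      simpa using hy
    choose a ha using hex
    have huniq : ∀ (w : ↥W₀) (b : ↥A), (w : M) + (b : M) ∈ W → a w = b := fun w b hb => by
      refine Subtype.ext (sub_eq_zero.1 (hWd _ ?_ (A.sub_mem (a w).2 b.2)))
      simpa using W.sub_mem (ha w) hb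
    let φ : ↥W₀ →ₗ[F[X]] ↥A :=
      { toFun := a
        map_add' := fun u v => huniq _ _ (by
          have := W.add_mem (ha u) (ha v)
          simp only [Submodule.coe_add]
          convert this using 1
          abel)
        map_smul' := fun c u => huniq _ _ (by
          simpa [smul_add] using W.smul_mem c (ha u)) }
    refine ⟨φ, Subtype.ext (le_antisymm ?_ ?_)⟩
    · intro x hx
      obtain ⟨w, rfl⟩ := (hmem φ x).1 hx
      exact ha w
    · intro x hx
      have : x ∈ A ⊔ W₀ := by rw [h1, ← hW1]; exact Submodule.mem_sup_left hx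
      obtain ⟨b, hb, w, hw, e⟩ := Submodule.mem_sup.1 this
      refine (hmem φ x).2 ⟨⟨w, hw⟩, ?_⟩
      have : a ⟨w, hw⟩ = ⟨b, hb⟩ := huniq _ _ (by simpa [add_comm, e] using hx)
      show w + (a ⟨w, hw⟩ : M) = x
      rw [this, ← e]
      exact add_comm _ _

theorem mob_eq_val [IsSemisimpleModule F[X] M] [Fintype (Submodule F[X] M)] (U : Submodule F[X] M) :
    mob U = val (UniqueFactorizationMonoid.normalizedFactors (pol (F := F) ↥U)) := by
  induction U using WellFoundedLT.induction with
  | _ U ih =>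
  rcases eq_bot_or_exists_atom_le U with rfl | ⟨A, hA, hAU⟩
  · rw [mob_bot, pol_of_subsingleton, UniqueFactorizationMonoid.normalizedFactors_one]
    simp [val]
  obtain ⟨W₀, h1, h2⟩ := exists_compl hAU
  obtain ⟨f, hf, hfm, ⟨e⟩⟩ := exists_simple_quot hA
  have hfin : Module.Finite F (F[X] ⧸ Ideal.span {f}) := (AdjoinRoot.powerBasis hfm.ne_zero).finite
  have hpolA : pol (F := F) ↥A = f := by rw [pol_congr e, pol_quot hfm]
  have hW : ∀ W, W ⊔ A = U ∧ W ⊓ A = ⊥ →
      mob W = val (UniqueFactorizationMonoid.normalizedFactors (pol (F := F) ↥W₀)) := by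
    intro W hW
    have hlt : W < U := by
      refine lt_of_le_of_ne (hW.1 ▸ le_sup_left) fun h => hA.1 ?_
      rw [← hW.2, h, inf_eq_right.2 hAU]
    rw [ih W hlt]
    have := pol_sup (sup_comm A W ▸ hW.1 : A ⊔ W = U) (inf_comm A W ▸ hW.2)
    rw [pol_sup h1 h2, hpolA] at this
    rw [mul_left_cancel₀ hf.ne_zero this]
  rw [mob_eq_neg_sum hA hAU, Finset.sum_congr rfl (fun W hW' => hW W (by simpa using hW')), Finset.sum_const, ← Fintype.card_subtype,
    ← Nat.card_eq_fintype_card, card_compl h1 h2, card_hom hf hfm e, pol_sup h1 h2, hpolA,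
    nf_mul_irreducible hf hfm pol_monic.ne_zero, val_cons]
  simp

end formula

end Cfsg.Agent.Lib.Flag.SteinbergValue
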