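import Mathlib
import Cfsg.Prelude.Def_LinearParabolics
import Cfsg.Agent.Lib.Flag.Blocks

/-!
The Steinberg alternating sum as a sum over sets of cut points, and fixed points on cosets of parabolic
subgroups as invariant chains of coordinate images.
-/

set_option autoImplicit false

namespace Cfsg.Agent.Lib.Flag.SteinbergValue

open scoped MatrixGroups

/-- the set of partial sums -/
def cuts {n : ℕ} (α : Fin n → ℕ) : Finset ℕ := (Finset.range (n + 1)).image (Cfsg.Agent.Lib.Flag.psum α)

theorem cuts_eq_insert {n : ℕ} (α : Fin n → ℕ) :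
    cuts α = insert (psum α n) ((Finset.range n).image (psum α)) := by
  rw [cuts, Finset.range_add_one, Finset.image_insert]

theorem psum_succ' {n : ℕ} (β : Fin (n + 1) → ℕ) {m : ℕ} (hm : m ≤ n) :
    psum β m = psum (fun i : Fin n => β i.castSucc) m := by
  classical
  unfold psum
  rw [Finset.sum_filter, Finset.sum_filter, Fin.sum_univ_castSucc]
  simp [not_lt.2 hm]

/-- the permutations with `κ i ≤ i + 1` -/
def Good {k : ℕ} (σ : Equiv.Perm (Fin k)) : Prop := ∀ i : Fin k, (σ i).val ≤ 1 + i.val

instance {k : ℕ} (σ : Equiv.Perm (Fin k)) : Decidable (Good σ) := Fintype.decidableForallFintype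

/-- the composition of a permutation -/
def comp {k : ℕ} (σ : Equiv.Perm (Fin k)) (i : Fin k) : ℕ := 1 + i.val - (σ i).val

theorem sum_comp {k : ℕ} {σ : Equiv.Perm (Fin k)} (h : Good σ) : ∑ i, comp σ i = k := by
  have : (∑ i, comp σ i) + ∑ i, (σ i).val = k + ∑ i : Fin k, i.val := by
    rw [← Finset.sum_add_distrib]
    have e : ∀ i ∈ (Finset.univ : Finset (Fin k)), comp σ i + (σ i).val = 1 + i.val := fun i _ => by
      show 1 + i.val - (σ i).val + (σ i).val = 1 + i.val
      exact Nat.sub_add_cancel (h i)
    rw [Finset.sum_congr rfl e]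
    rw [Finset.sum_add_distrib]
    simp
  rw [Equiv.sum_comp σ (fun i : Fin k => i.val)] at this
  omega

/-- extension fixing the last point -/
def ext' {k : ℕ} (σ : Equiv.Perm (Fin k)) : Equiv.Perm (Fin (k + 1)) :=
  (finSuccEquivLast.symm).permCongr (Equiv.optionCongr σ)

theorem ext'_last {k : ℕ} (σ : Equiv.Perm (Fin k)) : ext' σ (Fin.last k) = Fin.last k := by
  simp [ext', Equiv.permCongr_apply]

theorem ext'_castSucc {k : ℕ} (σ : Equiv.Perm (Fin k)) (i : Fin k) : ext' σ i.castSucc = (σ i).castSucc := by
  simp [ext', Equiv.permCongr_apply]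

theorem sign_ext' {k : ℕ} (σ : Equiv.Perm (Fin k)) : Equiv.Perm.sign (ext' σ) = Equiv.Perm.sign σ := by
  rw [ext', Equiv.Perm.sign_permCongr, Equiv.optionCongr_sign]

theorem ext'_injective {k : ℕ} : Function.Injective (ext' (k := k)) := by
  intro σ τ h
  refine Equiv.ext fun i => Fin.castSucc_injective _ ?_
  rw [← ext'_castSucc, ← ext'_castSucc, h]

theorem exists_ext' {k : ℕ} {κ : Equiv.Perm (Fin (k + 1))} (h : κ (Fin.last k) = Fin.last k) :
    ∃ σ, ext' σ = κ := by
  have hne : ∀ i : Fin k, κ i.castSucc ≠ Fin.last k := fun i hi =>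
    (Fin.castSucc_lt_last i).ne (κ.injective (hi.trans h.symm))
  let f : Fin k → Fin k := fun i => (κ i.castSucc).castPred (hne i)
  have hf : Function.Injective f := fun i j hij => by
    have := congrArg Fin.castSucc hij
    simp only [f, Fin.castSucc_castPred] at this
    exact Fin.castSucc_injective _ (κ.injective this)
  refine ⟨Equiv.ofBijective f ((Finite.injective_iff_bijective).1 hf), Equiv.ext fun x => ?_⟩
  induction x using Fin.lastCases with
  | last => rw [ext'_last, h]
  | cast i => rw [ext'_castSucc]; exact Fin.castSucc_castPred _ (hne i)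

/-- the signed sum over good permutations -/
def goodSum (k : ℕ) (Ψ : Finset ℕ → ℂ) : ℂ :=
  ∑ σ : Equiv.Perm (Fin k), if Good σ then ((Equiv.Perm.sign σ : ℤ) : ℂ) * Ψ (cuts (comp σ)) else 0

/-- the exchange of the last two points -/
def lastSwap (N : ℕ) : Equiv.Perm (Fin (N + 2)) := Equiv.swap (Fin.last N).castSucc (Fin.last (N + 1))

theorem lastSwap_other {N : ℕ} (i : Fin N) : lastSwap N i.castSucc.castSucc = i.castSucc.castSucc :=
  Equiv.swap_apply_of_ne_of_ne (by simp [Fin.ext_iff, i.isLt.ne]) (by
    simp only [ne_eq, Fin.ext_iff, Fin.val_castSucc, Fin.val_last]; omega)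

theorem good_ext' {k : ℕ} (σ : Equiv.Perm (Fin k)) : Good (ext' σ) ↔ Good σ := by
  constructor
  · intro h i
    have := h i.castSucc
    rw [ext'_castSucc] at this
    simpa using this
  · intro h i
    induction i using Fin.lastCases with
    | last => rw [ext'_last]; omega
    | cast i => rw [ext'_castSucc]; simpa using h i

theorem cuts_ext' {k : ℕ} {σ : Equiv.Perm (Fin k)} (h : Good σ) :
    cuts (comp (ext' σ)) = insert (k + 1) (cuts (comp σ)) := by
  rw [cuts_eq_insert (comp (ext' σ)), psum_top, sum_comp ((good_ext' σ).2 h)]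
  congr 1
  refine Finset.image_congr fun m hm => ?_
  rw [psum_succ' _ (by simp at hm; omega)]
  congr 1
  funext i
  simp [comp, ext'_castSucc]

theorem good_swap {N : ℕ} (σ : Equiv.Perm (Fin (N + 1))) : Good (ext' σ * lastSwap N) ↔ Good σ := by
  constructor
  · intro h i
    induction i using Fin.lastCases with
    | last => have := (σ (Fin.last N)).isLt; simp only [Fin.val_last]; omega
    | cast i =>
      have := h i.castSucc.castSucc
      rw [Equiv.Perm.mul_apply, lastSwap_other, ext'_castSucc] at this
      simpa using this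
  · intro h i
    rw [Equiv.Perm.mul_apply]
    induction i using Fin.lastCases with
    | last =>
      rw [lastSwap, Equiv.swap_apply_right, ext'_castSucc]
      have := (σ (Fin.last N)).isLt
      simp only [Fin.val_castSucc, Fin.val_last]
      omega
    | cast i =>
      induction i using Fin.lastCases with
      | last =>
        rw [lastSwap, Equiv.swap_apply_left, ext'_last]
        simp only [Fin.val_castSucc, Fin.val_last]
        omega
      | cast i => rw [lastSwap_other, ext'_castSucc]; simpa using h i.castSucc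

theorem cuts_swap {N : ℕ} {σ : Equiv.Perm (Fin (N + 1))} (h : Good σ) :
    cuts (comp (ext' σ * lastSwap N)) = insert (N + 2) ((cuts (comp σ)).erase (N + 1)) := by
  have hk := sum_comp h
  have hlt : psum (comp σ) N < N + 1 := by
    have h1 := psum_succ (comp σ) (Fin.last N)
    rw [Fin.val_last, psum_top, hk] at h1
    have h2 : 1 ≤ comp σ (Fin.last N) := by
      have := (σ (Fin.last N)).isLt
      simp only [comp, Fin.val_last]
      omega
    omega
  have hsame : ∀ m ≤ N, psum (comp (ext' σ * lastSwap N)) m = psum (comp σ) m := by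
    intro m hm
    rw [psum_succ' _ (hm.trans (Nat.le_succ N)), psum_succ' _ hm, psum_succ' (comp σ) hm]
    congr 1
    funext i
    simp [comp, Equiv.Perm.mul_apply, lastSwap_other, ext'_castSucc]
  have htop : psum (comp (ext' σ * lastSwap N)) (N + 2) = N + 2 := by
    rw [psum_top, sum_comp ((good_swap σ).2 h)]
  have hprev : psum (comp (ext' σ * lastSwap N)) (N + 1) = psum (comp σ) N := by
    have h1 := psum_succ (comp (ext' σ * lastSwap N)) (Fin.last N).castSucc
    rw [Fin.val_castSucc, Fin.val_last] at h1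
    rw [h1, hsame N le_rfl]
    simp [comp, Equiv.Perm.mul_apply, lastSwap, ext'_last]
    omega
  have hold : (cuts (comp σ)).erase (N + 1) = (Finset.range (N + 1)).image (psum (comp σ)) := by
    rw [cuts_eq_insert, psum_top, hk, Finset.erase_insert]
    simp only [Finset.mem_image, Finset.mem_range, not_exists, not_and]
    intro m hm heq
    have := psum_mono (comp σ) (show m ≤ N by omega)
    omega
  rw [hold, cuts_eq_insert, htop, Finset.range_add_one (n := N + 1), Finset.image_insert, hprev]
  congr 1
  rw [Finset.image_congr fun m hm => hsame m (by simp at hm; omega)]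
  exact Finset.insert_eq_of_mem (Finset.mem_image.2 ⟨N, by simp, rfl⟩)

theorem goodSum_succ (N : ℕ) (Ψ : Finset ℕ → ℂ) :
    goodSum (N + 2) Ψ = goodSum (N + 1) (fun T => Ψ (insert (N + 2) T)) -
      goodSum (N + 1) (fun T => Ψ (insert (N + 2) (T.erase (N + 1)))) := by
  classical
  let f : Equiv.Perm (Fin (N + 2)) → ℂ := fun κ =>
    if Good κ then ((Equiv.Perm.sign κ : ℤ) : ℂ) * Ψ (cuts (comp κ)) else 0
  let A := Finset.univ.image (ext' (k := N + 1))
  let B := Finset.univ.image (fun σ : Equiv.Perm (Fin (N + 1)) => ext' σ * lastSwap N)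
  have hdis : Disjoint A B := by
    rw [Finset.disjoint_left]
    intro κ h1 h2
    simp only [A, B, Finset.mem_image, Finset.mem_univ, true_and] at h1 h2
    obtain ⟨σ, rfl⟩ := h1
    obtain ⟨τ, h⟩ := h2
    have := congrArg (fun e : Equiv.Perm (Fin (N + 2)) => e (Fin.last (N + 1))) h
    simp only [Equiv.Perm.mul_apply, lastSwap, Equiv.swap_apply_right, ext'_castSucc, ext'_last] at this
    exact (Fin.castSucc_lt_last _).ne this
  have hrest : ∀ κ ∈ (Finset.univ : Finset (Equiv.Perm (Fin (N + 2)))), κ ∉ A ∪ B → f κ = 0 := by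
    intro κ _ hκ
    refine if_neg fun hg => hκ ?_
    simp only [A, B, Finset.mem_union, Finset.mem_image, Finset.mem_univ, true_and]
    have hj := hg (κ.symm (Fin.last (N + 1)))
    rw [Equiv.apply_symm_apply, Fin.val_last] at hj
    rcases eq_or_ne (κ.symm (Fin.last (N + 1))) (Fin.last (N + 1)) with hl | hl
    · exact Or.inl (exists_ext' ((Equiv.symm_apply_eq _).1 hl).symm)
    · have hN : κ.symm (Fin.last (N + 1)) = (Fin.last N).castSucc := by
        have := (κ.symm (Fin.last (N + 1))).isLt
        have : (κ.symm (Fin.last (N + 1))).val ≠ N + 1 := fun h => hl (Fin.ext h)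
        apply Fin.ext
        simp only [Fin.val_castSucc, Fin.val_last]
        omega
      have hfix : (κ * lastSwap N) (Fin.last (N + 1)) = Fin.last (N + 1) := by
        rw [Equiv.Perm.mul_apply, lastSwap, Equiv.swap_apply_right, ← hN, Equiv.apply_symm_apply]
      obtain ⟨σ, hσ⟩ := exists_ext' hfix
      exact Or.inr ⟨σ, by rw [hσ, lastSwap, Equiv.mul_swap_mul_self]⟩
  have hinjB : Function.Injective (fun σ : Equiv.Perm (Fin (N + 1)) => ext' σ * lastSwap N) :=
    fun a b h => ext'_injective (mul_right_cancel h)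
  have hsgn : ∀ σ : Equiv.Perm (Fin (N + 1)),
      Equiv.Perm.sign (ext' σ * lastSwap N) = -Equiv.Perm.sign σ := by
    intro σ
    rw [map_mul, sign_ext', lastSwap, Equiv.Perm.sign_swap (Fin.castSucc_lt_last _).ne]
    simp
  show ∑ κ, f κ = _
  rw [← Finset.sum_subset (Finset.subset_univ (A ∪ B)) hrest, Finset.sum_union hdis,
    Finset.sum_image (fun a _ b _ h => ext'_injective h), Finset.sum_image (fun a _ b _ h => hinjB h),
    sub_eq_add_neg, goodSum, goodSum, ← Finset.sum_neg_distrib]
  congr 1
  · refine Finset.sum_congr rfl fun σ _ => ?_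
    simp only [f, good_ext']
    split_ifs with h
    · rw [sign_ext', cuts_ext' h]
    · rfl
  · refine Finset.sum_congr rfl fun σ _ => ?_
    simp only [f, good_swap]
    split_ifs with h
    · rw [hsgn, cuts_swap h]; push_cast; ring
    · simp

theorem goodSum_eq (N : ℕ) : ∀ Ψ : Finset ℕ → ℂ, goodSum (N + 1) Ψ =
    ∑ T ∈ (Finset.Ioo 0 (N + 1)).powerset, (-1 : ℂ) ^ (N - T.card) * Ψ (insert 0 (insert (N + 1) T)) := by
  induction N with
  | zero =>
    intro Ψ
    have : Finset.Ioo 0 (0 + 1) = (∅ : Finset ℕ) := by ext x; simp; omega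
    rw [this, Finset.powerset_empty, Finset.sum_singleton, goodSum,
      Fintype.sum_subsingleton _ (1 : Equiv.Perm (Fin 1))]
    have hg : Good (1 : Equiv.Perm (Fin 1)) := fun i => by simp
    have hc : cuts (comp (1 : Equiv.Perm (Fin 1))) = insert 0 (insert 1 (∅ : Finset ℕ)) := by
      rw [cuts_eq_insert, psum_top, sum_comp hg]
      ext x
      simp [psum_zero, or_comm]
    simp [hg, hc]
  | succ N ih =>
    intro Ψ
    have hIoo : Finset.Ioo 0 (N + 2) = insert (N + 1) (Finset.Ioo 0 (N + 1)) := by
      ext x; simp; omega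
    rw [goodSum_succ, ih, ih, hIoo, Finset.sum_powerset_insert (by simp), sub_eq_neg_add,
      ← Finset.sum_neg_distrib]
    have hT : ∀ T ∈ (Finset.Ioo 0 (N + 1)).powerset, T.card ≤ N ∧ N + 1 ∉ T := fun T hT => by
      rw [Finset.mem_powerset] at hT
      have := Finset.card_le_card hT
      simp at this
      exact ⟨this, fun h => by simpa using hT h⟩
    congr 1
    · refine Finset.sum_congr rfl fun T hTT => ?_
      obtain ⟨hc, hn⟩ := hT T hTT
      have he : (insert 0 (insert (N + 1) T)).erase (N + 1) = insert 0 T := by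
        rw [Finset.erase_insert_of_ne (by omega), Finset.erase_insert hn]
      rw [he, Finset.insert_comm (N + 2) 0, show N + 1 - T.card = (N - T.card) + 1 by omega, pow_succ]
      ring
    · refine Finset.sum_congr rfl fun T hTT => ?_
      obtain ⟨hc, hn⟩ := hT T hTT
      rw [Finset.card_insert_of_notMem hn, show N + 1 - (T.card + 1) = N - T.card by omega,
        Finset.insert_comm (N + 2) 0]

section flags

variable {F : Type*} [Field F] {n : ℕ}

/-- the span of the first `k` standard vectors -/
def coordE (k : ℕ) : Submodule F (Fin n → F) where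
  carrier := {v | ∀ i : Fin n, k ≤ i.val → v i = 0}
  add_mem' := fun hu hv i hi => by simp [hu i hi, hv i hi]
  zero_mem' := fun i _ => rfl
  smul_mem' := fun c v hv i hi => by simp [hv i hi]

/-- the image of the first `k` coordinates -/
def img (g : GL (Fin n) F) (k : ℕ) : Submodule F (Fin n → F) :=
  (coordE k).map (Matrix.toLin' (g : Matrix (Fin n) (Fin n) F))

theorem toLin'_inj (g : GL (Fin n) F) : Function.Injective (Matrix.toLin' (g : Matrix (Fin n) (Fin n) F)) := by
  intro u v h
  have := congrArg (Matrix.toLin' ((g⁻¹ : GL (Fin n) F) : Matrix (Fin n) (Fin n) F)) h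
  simpa [Matrix.toLin'_apply, Matrix.mulVec_mulVec] using this

theorem finrank_coordE {k : ℕ} (hk : k ≤ n) : Module.finrank F (coordE (F := F) (n := n) k) = k := by
  let e : coordE (F := F) (n := n) k ≃ₗ[F] (Fin k → F) :=
    { toFun := fun v i => v.1 (Fin.castLE hk i)
      map_add' := fun u v => rfl
      map_smul' := fun c v => rfl
      invFun := fun f => ⟨fun i => if h : i.val < k then f ⟨i.val, h⟩ else 0, fun i hi => dif_neg (not_lt.2 hi)⟩
      left_inv := fun v => by
        apply Subtype.ext
        funext i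
        show (if h : i.val < k then v.1 (Fin.castLE hk ⟨i.val, h⟩) else 0) = v.1 i
        split_ifs with h
        · rfl
        · exact (v.2 i (not_lt.1 h)).symm
      right_inv := fun f => by funext i; simp [i.isLt] }
  rw [e.finrank_eq, Module.finrank_fin_fun]

theorem finrank_img (g : GL (Fin n) F) {k : ℕ} (hk : k ≤ n) : Module.finrank F (img g k) = k := by
  rw [img, ← LinearEquiv.finrank_eq (Submodule.equivMapOfInjective _ (toLin'_inj g) _), finrank_coordE hk]

theorem img_mul (g h : GL (Fin n) F) (k : ℕ) :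
    img (g * h) k = (img h k).map (Matrix.toLin' (g : Matrix (Fin n) (Fin n) F)) := by
  rw [img, img, ← Submodule.map_comp, ← Matrix.toLin'_mul, Units.val_mul]

theorem mem_parabolic_iff (α : Fin n → ℕ) (hα : ∑ i, α i = n) (g : GL (Fin n) F) :
    g ∈ Cfsg.parabolicGL n F α ↔ ∀ k ∈ cuts α, img g k ≤ coordE k := by
  constructor
  · intro hg k hk
    obtain ⟨m, hm, rfl⟩ := Finset.mem_image.1 hk
    rw [Finset.mem_range] at hm
    rintro _ ⟨v, hv, rfl⟩ i hi
    rw [Matrix.toLin'_apply, Matrix.mulVec]
    refine Finset.sum_eq_zero fun j _ => ?_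
    by_cases hj : psum α m ≤ j.val
    · rw [hv j hj, mul_zero]
    · have h1 : Cfsg.compLabel α j < m := (compLabel_lt_iff α j (by omega)).2 (not_le.1 hj)
      have h2 : ¬ Cfsg.compLabel α i < m := fun h => by
        have := (compLabel_lt_iff α i (by omega)).1 h; omega
      have h0 : (g : Matrix (Fin n) (Fin n) F) i j = 0 := hg (show Cfsg.compLabel α j < Cfsg.compLabel α i by omega)
      show (g : Matrix (Fin n) (Fin n) F) i j * v j = 0
      rw [h0, zero_mul]
  · intro h i j hij
    have hj := compLabel_lt α hα j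
    set m := Cfsg.compLabel α j + 1 with hm
    have hj' : j.val < psum α m := (compLabel_lt_iff α j (by omega)).1 (by omega)
    have hi' : psum α m ≤ i.val := by
      by_contra hc
      have := (compLabel_lt_iff α i (by omega)).2 (not_le.1 hc)
      omega
    have hmem : Matrix.toLin' (g : Matrix (Fin n) (Fin n) F) (Pi.single j 1) ∈ coordE (psum α m) := by
      refine h _ (Finset.mem_image.2 ⟨m, by simp; omega, rfl⟩) ⟨_, fun l hl => ?_, rfl⟩
      exact Pi.single_eq_of_ne (fun e => by rw [e] at hl; omega) _
    have := hmem i hi'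
    simpa [Matrix.toLin'_apply] using this

theorem img_eq_of_mem (α : Fin n → ℕ) (hα : ∑ i, α i = n) {p : GL (Fin n) F}
    (hp : p ∈ Cfsg.parabolicGL n F α) {k : ℕ} (hk : k ∈ cuts α) (hkn : k ≤ n) : img p k = coordE k := by
  refine Submodule.eq_of_le_of_finrank_eq ((mem_parabolic_iff α hα p).1 hp k hk) ?_
  rw [finrank_img p hkn, finrank_coordE hkn]

theorem mem_parabolic_iff_img (α : Fin n → ℕ) (hα : ∑ i, α i = n) (g h : GL (Fin n) F) :
    h⁻¹ * g ∈ Cfsg.parabolicGL n F α ↔ ∀ k ∈ cuts α, img g k ≤ img h k := by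
  rw [mem_parabolic_iff α hα]
  refine forall₂_congr fun k _ => ?_
  have e : img g k = (img (h⁻¹ * g) k).map (Matrix.toLin' (h : Matrix (Fin n) (Fin n) F)) := by
    rw [← img_mul, mul_inv_cancel_left]
  rw [e]
  show _ ↔ _ ≤ (coordE k).map (Matrix.toLin' (h : Matrix (Fin n) (Fin n) F))
  exact (Submodule.map_le_map_iff_of_injective (toLin'_inj h) _ _).symm

theorem exists_adapted (C : Finset (Submodule F (Fin n → F)))
    (hC : IsChain (· ≤ ·) (C : Set (Submodule F (Fin n → F)))) :
    ∀ m : ℕ, m ≤ n → ∃ v : Fin m → (Fin n → F), LinearIndependent F v ∧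
      ∀ U ∈ C, ∀ i : Fin m, i.val < Module.finrank F U → v i ∈ U := by
  intro m
  induction m with
  | zero => exact fun _ => ⟨Fin.elim0, linearIndependent_empty_type, fun U _ i => i.elim0⟩
  | succ m ih =>
    intro hm
    obtain ⟨v, hv, hvU⟩ := ih (by omega)
    classical
    -- the smallest member of dimension above `m`
    obtain ⟨U₀, hU₀, hmin⟩ : ∃ U₀ : Submodule F (Fin n → F), m < Module.finrank F U₀ ∧
        ∀ U ∈ C, m < Module.finrank F U → U₀ ≤ U := by
      rcases (C.filter fun U : Submodule F (Fin n → F) => m < Module.finrank F U).eq_empty_or_nonempty with h | h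
      · refine ⟨⊤, by rw [finrank_top, Module.finrank_fin_fun]; omega, fun U hU hlt => ?_⟩
        have : U ∈ C.filter fun U : Submodule F (Fin n → F) => m < Module.finrank F U :=
          Finset.mem_filter.2 ⟨hU, hlt⟩
        rw [h] at this
        exact absurd this (Finset.notMem_empty _)
      · obtain ⟨U₀, hU₀⟩ := Finset.exists_minimal h
        have hU₀m := Finset.mem_filter.1 hU₀.prop
        refine ⟨U₀, hU₀m.2, fun U hU hlt => ?_⟩
        rcases eq_or_ne U₀ U with e | e
        · exact e.le
        rcases hC hU₀m.1 hU e with h' | h'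
        · exact h'
        · exact hU₀.le_of_le (Finset.mem_filter.2 ⟨hU, hlt⟩) h'
    obtain ⟨w, hwU, hw⟩ : ∃ w ∈ U₀, w ∉ Submodule.span F (Set.range v) := by
      by_contra hc
      push Not at hc
      have := Submodule.finrank_mono (show U₀ ≤ Submodule.span F (Set.range v) from hc)
      rw [finrank_span_eq_card hv, Fintype.card_fin] at this
      omega
    refine ⟨Fin.snoc v w, hv.finSnoc hw, fun U hU i => ?_⟩
    induction i using Fin.lastCases with
    | last => intro hlt; rw [Fin.snoc_last]; exact hmin U hU hlt hwU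
    | cast i => intro hlt; rw [Fin.snoc_castSucc]; exact hvU U hU i hlt

theorem exists_img_eq (C : Finset (Submodule F (Fin n → F)))
    (hC : IsChain (· ≤ ·) (C : Set (Submodule F (Fin n → F)))) :
    ∃ g : GL (Fin n) F, ∀ U ∈ C, img g (Module.finrank F U) = U := by
  obtain ⟨v, hv, hvU⟩ := exists_adapted C hC n le_rfl
  let M : Matrix (Fin n) (Fin n) F := Matrix.of fun i j => v j i
  have hM : IsUnit M := Matrix.linearIndependent_cols_iff_isUnit.1 hv
  refine ⟨hM.unit, fun U hU => ?_⟩
  have hle : Module.finrank F U ≤ n := (Submodule.finrank_le U).trans (Module.finrank_fin_fun F).le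
  refine Submodule.eq_of_le_of_finrank_eq ?_ (finrank_img _ hle)
  rintro _ ⟨a, ha, rfl⟩
  have e : Matrix.toLin' ((hM.unit : GL (Fin n) F) : Matrix (Fin n) (Fin n) F) a = ∑ j, a j • v j := by
    funext i
    simp [Matrix.toLin'_apply, Matrix.mulVec, dotProduct, M, mul_comm, Finset.sum_apply]
  rw [e]
  refine Submodule.sum_mem _ fun j _ => ?_
  by_cases hj : j.val < Module.finrank F U
  · exact U.smul_mem _ (hvU U hU j hj)
  · rw [ha j (not_lt.1 hj), zero_smul]
    exact U.zero_mem

end flags

end Cfsg.Agent.Lib.Flag.SteinbergValue
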